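import Cfsg.Agent.ThreeTransposition.M24Unique.Match

/-!
Uniqueness of the classes of type M(24), given uniqueness for type M(23).
-/

set_option autoImplicit false
set_option linter.unusedSectionVars false

namespace Cfsg.Lib.ThreeTr.M24U

open Cfsg Subgroup

attribute [local instance] _root_.Classical.propDecidable

universe u v

variable {G : Type u} [Group G] {G' : Type v} [Group G'] {D : Set G} {D' : Set G'}

theorem conj_eq_conj_iff' {Γ : Type*} [Group Γ] {a b c : Γ} :
    a * c * a⁻¹ = b * c * b⁻¹ ↔ Commute (b⁻¹ * a) c :=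
  ⟨fun e => by
    show b⁻¹ * a * c = c * (b⁻¹ * a)
    calc b⁻¹ * a * c = b⁻¹ * (a * c * a⁻¹) * a := by group
      _ = c * (b⁻¹ * a) := by rw [e]; group,
    fun e => by
    calc a * c * a⁻¹ = b * (b⁻¹ * a * c) * a⁻¹ := by group
      _ = b * c * b⁻¹ := by rw [e.eq]; group⟩

section Graph

variable (hcls : IsThreeTranspositionClass D)
include hcls

/-- The action on the class. -/
def act : G →* Equiv.Perm ↥D where
  toFun g :=
    { toFun := fun x => ⟨g * x * g⁻¹, conj_mem hcls g x.2⟩
      invFun := fun x => ⟨g⁻¹ * x * g⁻¹⁻¹, conj_mem hcls g⁻¹ x.2⟩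
      left_inv := fun x => Subtype.ext (by group)
      right_inv := fun x => Subtype.ext (by group) }
  map_one' := Equiv.ext fun x => Subtype.ext (by simp)
  map_mul' a b := Equiv.ext fun x => Subtype.ext (by
    show a * b * x * (a * b)⁻¹ = a * (b * x * b⁻¹) * a⁻¹
    group)

theorem act_injective (hZ : center G = ⊥) : Function.Injective (act hcls) := by
  rw [injective_iff_map_eq_one]
  intro g hg
  have hle : closure D ≤ centralizer ({g} : Set G) := (closure_le _).2 fun x hx => by
    have := congrArg Subtype.val (Equiv.ext_iff.1 hg ⟨x, hx⟩)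
    exact mem_centralizer_singleton_iff.2 (mul_inv_eq_iff_eq_mul.1 this).symm
  have : g ∈ center G := mem_center_iff.2 fun k =>
    mem_centralizer_singleton_iff.1 (hle (hcls.2.2 ▸ mem_top k))
  rwa [hZ, mem_bot] at this

theorem act_range : (act hcls).range = closure (act hcls '' D) := by
  rw [← MonoidHom.map_closure, hcls.2.2, ← MonoidHom.range_eq_map]

/-- A bijection of two classes respecting the products `x y x` comes from an isomorphism. -/
theorem iso_of_conj (hcls' : IsThreeTranspositionClass D') (hZ : center G = ⊥) (hZ' : center G' = ⊥) {f : G → G'}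
    (hf : Set.BijOn f D D') (hconj : ∀ x ∈ D, ∀ y ∈ D, f (x * y * x) = f x * f y * f x) :
    ∃ e : G ≃* G', e '' D = D' := by
  let E : ↥D ≃ ↥D' := hf.equiv f
  let P : Equiv.Perm ↥D ≃* Equiv.Perm ↥D' := E.permCongrHom
  have key : ∀ x, ∀ hx : x ∈ D, P (act hcls x) = act hcls' (f x) := by
    intro x hx
    refine Equiv.ext fun y => Subtype.ext ?_
    have e1 : f ((E.symm y : ↥D) : G) = (y : G') := congrArg Subtype.val (E.apply_symm_apply y)
    show f (x * (E.symm y : ↥D) * x⁻¹) = f x * y * (f x)⁻¹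
    rw [inv_eq hcls.1 hx, inv_eq hcls'.1 (hf.mapsTo hx), hconj x hx _ (E.symm y).2, e1]
  have hrange : (act hcls).range.map P.toMonoidHom = (act hcls').range := by
    rw [act_range hcls, act_range hcls', MonoidHom.map_closure]
    congr 1
    ext p
    constructor
    · rintro ⟨_, ⟨x, hx, rfl⟩, rfl⟩
      exact ⟨f x, hf.mapsTo hx, (key x hx).symm⟩
    · rintro ⟨y, hy, rfl⟩
      obtain ⟨x, hx, rfl⟩ := hf.surjOn hy
      exact ⟨_, ⟨x, hx, rfl⟩, key x hx⟩
  let e : G ≃* G' := (MonoidHom.ofInjective (act_injective hcls hZ)).trans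
    ((P.subgroupMap (act hcls).range).trans
      ((MulEquiv.subgroupCongr hrange).trans (MonoidHom.ofInjective (act_injective hcls' hZ')).symm))
  have he : ∀ x ∈ D, e x = f x := by
    intro x hx
    refine act_injective hcls' hZ' (Eq.trans ?_ (key x hx))
    show act hcls' ((MonoidHom.ofInjective (act_injective hcls' hZ')).symm _) = _
    exact MonoidHom.apply_ofInjective_symm (act_injective hcls' hZ') _
  exact ⟨e, by rw [Set.image_congr he, hf.image_eq]⟩

end Graph

variable [Finite G] [Finite G'] (h : M24 D) (h' : M24 D')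
include h h'

/-- A bijection respecting commutation respects the products `x y x`. -/
theorem conj_of_commute {f : G → G'} (hf : Set.BijOn f D D')
    (hcomm : ∀ x ∈ D, ∀ y ∈ D, (Commute (f x) (f y) ↔ Commute x y)) :
    ∀ x ∈ D, ∀ y ∈ D, f (x * y * x) = f x * f y * f x := by
  intro x hx y hy
  have hcls := h.solid.full.cls
  have hcls' := h'.solid.full.cls
  by_cases hxy : Commute x y
  · rw [hxy.eq, mul_assoc, sq_eq_one hcls.1 hx, mul_one, ((hcomm x hx y hy).2 hxy).eq, mul_assoc,
      sq_eq_one hcls'.1 (hf.mapsTo hx), mul_one]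
  have hw := conj_invol_mem hcls hx hy
  have hnt := not_commute_third hcls.1 hx hy hxy
  rcases h'.solid.full.level.double (f x) (hf.mapsTo hx) (f y) (hf.mapsTo hy) (fun k => hxy ((hcomm x hx y hy).1 k))
    (f (x * y * x)) (hf.mapsTo hw) (fun z' hz' k1 k2 => by
      obtain ⟨z, hz, rfl⟩ := hf.surjOn hz'
      have c1 := (hcomm z hz x hx).1 k1
      have c2 := (hcomm z hz y hy).1 k2
      exact (hcomm z hz _ hw).2 ((c1.mul_right c2).mul_right c1)) with e | e | e
  · refine absurd (Commute.refl x) ?_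
    nth_rw 2 [← hf.injOn hw hx e]
    exact hnt
  · refine absurd ?_ hxy
    have e' := hf.injOn hw hy e
    show x * y = y * x
    calc x * y = x * y * (x * x) := by rw [sq_eq_one hcls.1 hx, mul_one]
      _ = y * x := by rw [← mul_assoc, e']
  · exact e

variable {d : G} {d' : G'} (hd : d ∈ D) (hd' : d' ∈ D')
include hd hd'

/-- A correspondence of centralisers from one of the descended classes. -/
theorem exists_lift {Q : Type u} [Group Q] [Finite Q] {E : Set Q} {π : ↥(closure (perp D d)) →* Q} (hQ : M23 E)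
    (M : Model (perp D d) E π) {Q' : Type v} [Group Q'] [Finite Q'] {E' : Set Q'}
    {π' : ↥(closure (perp D' d')) →* Q'} (hQ' : M23 E') (M' : Model (perp D' d') E' π') (ε : Q ≃* Q')
    (hε : ε '' E = E') : ∃ F : G → G', Lift D D' d d' F := by
  obtain ⟨χ, hχ⟩ := h.exists_sign
  obtain ⟨χ', hχ'⟩ := h'.exists_sign
  have pair : ∀ {Γ : Type u} [Group Γ] [Finite Γ] {C : Set Γ} (hC : M24 C) {p : Γ} (hp : p ∈ C) {R : Type u}
      [Group R] [Finite R] {B : Set R} {ρ : ↥(closure (perp C p)) →* R} (hR : M23 B) (N : Model (perp C p) B ρ)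
      (ψ : Γ →* ℤˣ) (hψ : ∀ x ∈ C, ψ x = -1),
      Function.Bijective (ρ.prod (ψ.comp (closure (perp C p)).subtype)) ∧
        ρ ⟨p, hC.solid.self_mem p hp⟩ = 1 := by
    intro Γ _ _ C hC p hp R _ _ B ρ hR N ψ hψ
    have hk := N.ker_eq (fun x hx g hg => conj_mem_perp (fun g _ he => conj_mem hC.solid.full.cls g he) hg hx)
      hR.solid.full.tower.center_eq
    have hd0 : ρ ⟨p, hC.solid.self_mem p hp⟩ = 1 := by
      rw [← MonoidHom.mem_ker, hk, hC.solid.center_closure_perp hp]
      exact mem_zpowers p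
    refine ⟨⟨?_, fun ⟨r, s⟩ => ?_⟩, hd0⟩
    · rw [injective_iff_map_eq_one]
      intro g hg
      rw [MonoidHom.prod_apply, Prod.mk_eq_one] at hg
      have hgz : g ∈ center ↥(closure (perp C p)) := hk ▸ MonoidHom.mem_ker.2 hg.1
      rcases hC.solid.full.eq_one_or_self hp (closure_perp_commute g.2).symm
        (fun e he => congrArg Subtype.val (mem_center_iff.1 hgz ⟨e, subset_closure he⟩)) with e | e
      · exact Subtype.ext e
      · have h1 : ψ (g : Γ) = 1 := hg.2
        rw [e, hψ p hp] at h1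
        exact absurd h1 (by decide)
    · obtain ⟨g, rfl⟩ := N.surj r
      by_cases hs : ψ (g : Γ) = s
      · exact ⟨g, Prod.ext rfl hs⟩
      · refine ⟨g * ⟨p, hC.solid.self_mem p hp⟩, Prod.ext ?_ ?_⟩
        · show ρ _ = ρ g
          rw [map_mul, hd0, mul_one]
        · show ψ ((g : Γ) * p) = s
          rw [map_mul, hψ p hp]
          rcases Int.units_eq_one_or (ψ (g : Γ)) with a | a <;> rcases Int.units_eq_one_or s with b | b <;>
            rw [a, b] at hs ⊢ <;> first | exact absurd rfl hs | decide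
  obtain ⟨hb, hp0⟩ := pair h hd hQ M χ hχ
  -- the other side, at its own universe
  have hk' := M'.ker_eq (fun x hx g hg => conj_mem_perp (fun g _ he => conj_mem h'.solid.full.cls g he) hg hx)
    hQ'.solid.full.tower.center_eq
  have hp0' : π' ⟨d', h'.solid.self_mem d' hd'⟩ = 1 := by
    rw [← MonoidHom.mem_ker, hk', h'.solid.center_closure_perp hd']
    exact mem_zpowers d'
  have hb' : Function.Bijective (π'.prod (χ'.comp (closure (perp D' d')).subtype)) := by
    refine ⟨?_, fun ⟨r, s⟩ => ?_⟩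
    · rw [injective_iff_map_eq_one]
      intro g hg
      rw [MonoidHom.prod_apply, Prod.mk_eq_one] at hg
      have hgz : g ∈ center ↥(closure (perp D' d')) := hk' ▸ MonoidHom.mem_ker.2 hg.1
      rcases h'.solid.full.eq_one_or_self hd' (closure_perp_commute g.2).symm
        (fun e he => congrArg Subtype.val (mem_center_iff.1 hgz ⟨e, subset_closure he⟩)) with e | e
      · exact Subtype.ext e
      · have h1 : χ' (g : G') = 1 := hg.2
        rw [e, hχ' d' hd'] at h1
        exact absurd h1 (by decide)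
    · obtain ⟨g, rfl⟩ := M'.surj r
      by_cases hs : χ' (g : G') = s
      · exact ⟨g, Prod.ext rfl hs⟩
      · refine ⟨g * ⟨d', h'.solid.self_mem d' hd'⟩, Prod.ext ?_ ?_⟩
        · show π' _ = π' g
          rw [map_mul, hp0', mul_one]
        · show χ' ((g : G') * d') = s
          rw [map_mul, hχ' d' hd']
          rcases Int.units_eq_one_or (χ' (g : G')) with a | a <;> rcases Int.units_eq_one_or s with b | b <;>
            rw [a, b] at hs ⊢ <;> first | exact absurd rfl hs | decide
  let φ : ↥(closure (perp D d)) ≃* ↥(closure (perp D' d')) :=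
    ((MulEquiv.ofBijective _ hb).trans (ε.prodCongr (MulEquiv.refl ℤˣ))).trans (MulEquiv.ofBijective _ hb').symm
  have hφ : ∀ g, π' (φ g) = ε (π g) ∧ χ' (φ g : G') = χ (g : G) := fun g => by
    have e : (π'.prod (χ'.comp (closure (perp D' d')).subtype)) (φ g) = (ε (π g), χ (g : G)) :=
      (MulEquiv.ofBijective _ hb').apply_symm_apply _
    exact ⟨congrArg Prod.fst e, congrArg Prod.snd e⟩
  let F : G → G' := fun g => if hg : g ∈ closure (perp D d) then (φ ⟨g, hg⟩ : G') else 1
  have hF : ∀ g (hg : g ∈ closure (perp D d)), F g = (φ ⟨g, hg⟩ : G') := fun g hg => dif_pos hg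
  refine ⟨F, ⟨fun a ha b hb => ?_, fun a ha => ?_, fun a ha b hb e => ?_, fun b hb => ?_, ?_, fun a ha => ?_⟩⟩
  · rw [hF _ (mul_mem ha hb), hF a ha, hF b hb, ← coe_mul, ← map_mul]; rfl
  · rw [hF a ha]; exact SetLike.coe_mem _
  · rw [hF a ha, hF b hb] at e
    exact congrArg Subtype.val (φ.injective (Subtype.ext e))
  · obtain ⟨a, ha⟩ := φ.surjective ⟨b, hb⟩
    exact ⟨a, a.2, by rw [hF _ a.2]; exact congrArg Subtype.val ha⟩
  · rw [hF d (h.solid.self_mem d hd)]
    refine congrArg Subtype.val (hb'.1 (a₂ := ⟨d', h'.solid.self_mem d' hd'⟩) ?_)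
    obtain ⟨e1, e2⟩ := hφ ⟨d, h.solid.self_mem d hd⟩
    refine Prod.ext ?_ ?_
    · show π' _ = π' _
      rw [e1, hp0, map_one, hp0']
    · show χ' (φ ⟨d, h.solid.self_mem d hd⟩ : G') = χ' d'
      rw [e2, hχ d hd, hχ' d' hd']
  · rw [hF a ha]
    obtain ⟨e1, e2⟩ := hφ ⟨a, ha⟩
    constructor
    · intro hp
      have hm : π' (φ ⟨a, ha⟩) ∈ E' := M'.mem _ hp
      rw [e1, ← hε] at hm
      obtain ⟨q, hq, hqe⟩ := hm
      obtain ⟨x, hx, rfl⟩ := M.onto q hq
      have hax : (⟨a, ha⟩ : ↥(closure (perp D d))) = x := hb.1 (Prod.ext (ε.injective hqe.symm) (by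
        show χ a = χ (x : G)
        rw [hχ _ hx.1, ← e2, hχ' _ hp.1]))
      rwa [← hax] at hx
    · intro hp
      have hm : ε (π ⟨a, ha⟩) ∈ E' := hε ▸ ⟨_, M.mem _ hp, rfl⟩
      obtain ⟨x, hx, hxe⟩ := M'.onto _ hm
      have hax : φ ⟨a, ha⟩ = x := hb'.1 (Prod.ext (e1.trans hxe.symm) (by
        show χ' (φ ⟨a, ha⟩ : G') = χ' (x : G')
        rw [e2, hχ' _ hx.1, hχ _ hp.1]))
      rwa [hax]

omit h' hd' in
/-- A member near `d` moves a member off the centraliser to a commuting one. -/
theorem near_form {k y : G} (hk : k ∈ D) (hdk : ¬ Commute d k) (hy : y ∈ perp D d) (hyk : ¬ Commute y k) :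
    d * y * k * (d * y)⁻¹ = d * (k * y * k) * d ∧ d * y * k * (d * y)⁻¹ ∈ perp D k ∧
      ¬ Commute d (d * y * k * (d * y)⁻¹) := by
  have hcls := h.solid.full.cls
  have hE := hcls.1
  have hd2 := sq_eq_one hE hd
  have hk2 := sq_eq_one hE hk
  have hb3 : d * k * d = k * d * k := braid hE hd hk hdk
  have e : d * y * k * (d * y)⁻¹ = d * (k * y * k) * d := by
    rw [mul_inv_rev, inv_eq hE hd, inv_eq hE hy.1, braid hE hk hy.1 fun e => hyk e.symm]
    simp only [mul_assoc]
  have hfar : ¬ Commute d (d * y * k * (d * y)⁻¹) := fun e' => hdk ((conj_commute_iff (d * y) d k).1 (by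
    rwa [show d * y * d * (d * y)⁻¹ = d by
      rw [mul_assoc d y d, ← hy.2.2.eq, ← mul_assoc, hd2, one_mul, mul_inv_rev, inv_eq hE hd, inv_eq hE hy.1,
        ← mul_assoc, sq_eq_one hE hy.1, one_mul]]))
  refine ⟨e, ?_, hfar⟩
  rw [e]
  have hc1 : Commute k (d * (k * y * k) * d) := by
    have h1 : Commute (k * d * k⁻¹) (k * y * k⁻¹) := (conj_commute_iff k d y).2 hy.2.2
    rw [inv_eq hE hk, ← hb3] at h1
    have h2 := (conj_commute_iff d (d * k * d) (k * y * k)).2 h1
    rwa [inv_eq hE hd, invol_conj_conj hd2] at h2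
  refine ⟨conj_invol_mem hcls hd (conj_invol_mem hcls hk hy.1), fun e' => hy.2.1 ?_, hc1⟩
  have e1 : k * y * k = k * d * k := by
    rw [← hb3]
    conv_rhs => rw [← e']
    rw [invol_conj_conj hd2]
  exact mul_left_cancel (mul_right_cancel e1)

omit h' hd' in
/-- The members commuting with one off the centraliser. -/
theorem far_perp {k : G} (hk : k ∈ D) (hdk : ¬ Commute d k) {b : G} (hb : b ∈ perp D k) (hdb : ¬ Commute d b) :
    ∃ y ∈ perp D d, ¬ Commute y k ∧ b = d * y * k * (d * y)⁻¹ := by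
  set N := perp D d \ Trace D d k with hN
  set A := {b | b ∈ perp D k ∧ ¬ Commute d b} with hA
  have hNk : ∀ y ∈ N, ¬ Commute y k := fun y hy e => hy.2 ⟨hy.1, hy.1.1, fun e' => hdk (e' ▸ hy.1.2.2), e.symm⟩
  have him : (fun y => d * (k * y * k) * d) '' N ⊆ A := by
    rintro _ ⟨y, hy, rfl⟩
    obtain ⟨e, h1, h2⟩ := near_form h hd hk hdk hy.1 (hNk y hy)
    show d * (k * y * k) * d ∈ A
    rw [← e]
    exact ⟨h1, h2⟩
  have hinj : Set.InjOn (fun y => d * (k * y * k) * d) N := fun y _ z _ e =>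
    mul_left_cancel (mul_right_cancel (mul_left_cancel (mul_right_cancel e)))
  have hAc : A ⊆ perp D k \ Trace D d k := fun b hb => ⟨hb.1, fun e => hb.2 e.1.2.2⟩
  have e1 := Set.ncard_sdiff_add_ncard_of_subset (show Trace D d k ⊆ perp D k from Set.inter_subset_right)
    (Set.toFinite _)
  have e2 := Set.ncard_sdiff_add_ncard_of_subset (show Trace D d k ⊆ perp D d from Set.inter_subset_left)
    (Set.toFinite _)
  rw [ncard_perp h hk, ncard_trace h hd hk hdk] at e1
  rw [ncard_perp h hd, ncard_trace h hd hk hdk] at e2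
  have heq : (fun y => d * (k * y * k) * d) '' N = A := by
    refine Set.eq_of_subset_of_ncard_le him ?_ (Set.toFinite _)
    rw [hinj.ncard_image]
    have := Set.ncard_le_ncard hAc (Set.toFinite _)
    show A.ncard ≤ (perp D d \ Trace D d k).ncard
    omega
  obtain ⟨y, hy, rfl⟩ := heq.symm.subset (show b ∈ A from ⟨hb, hdb⟩)
  exact ⟨y, hy.1, hNk y hy, ((near_form h hd hk hdk hy.1 (hNk y hy)).1).symm⟩

/-- A correspondence of centralisers extends to an isomorphism. -/
theorem iso_of_lift {F : G → G'} (L : Lift D D' d d' F) : ∃ e : G ≃* G', e '' D = D' := by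
  have hcls := h.solid.full.cls
  have hcls' := h'.solid.full.cls
  obtain ⟨k, hk, hdk⟩ := h.solid.full.exists_noncomm hd
  obtain ⟨k', hk', hdk', -, hstab⟩ := exists_match L h h' hd hd' hk hdk
  set C := closure (perp D d) with hC
  have hCd : ∀ {g : G}, Commute g d → g ∈ C := fun {g} hg => by
    rw [hC, ← h.solid.centralizer_eq hd]; exact mem_centralizer_singleton_iff.2 hg.eq
  have hCd' : ∀ {g : G'}, Commute g d' → g ∈ closure (perp D' d') := fun {g} hg => by
    rw [← h'.solid.centralizer_eq hd']; exact mem_centralizer_singleton_iff.2 hg.eq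
  have hFd : ∀ {g : G}, g ∈ C → Commute (F g) d' := fun hg => closure_perp_commute (L.maps _ hg)
  have htr : ∀ x ∈ D, ¬ Commute d x → ∃ g ∈ C, g * k * g⁻¹ = x := fun x hx hdx => by
    obtain ⟨g, hg, e⟩ := h.solid.full.tower.rich.nonperp_transitive hd hk hdk hx hdx
    exact ⟨g, hCd hg, e⟩
  choose! γ hγC hγ using htr
  let f : G → G' := fun x => if Commute d x then F x else F (γ x) * k' * (F (γ x))⁻¹
  have fnear : ∀ {x}, Commute d x → f x = F x := fun hx => if_pos hx
  have far_not : ∀ {g : G}, g ∈ C → ¬ Commute d (g * k * g⁻¹) := fun {g} hg e => hdk (by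
    refine (conj_commute_iff g d k).1 ?_
    rwa [(closure_perp_commute hg).eq, mul_inv_cancel_right])
  have fix_iff : ∀ {g g' : G}, g ∈ C → g' ∈ C →
      (g * k * g⁻¹ = g' * k * g'⁻¹ ↔ F g * k' * (F g)⁻¹ = F g' * k' * (F g')⁻¹) := by
    intro g g' hg hg'
    rw [conj_eq_conj_iff', conj_eq_conj_iff', hstab _ (mul_mem (inv_mem hg') hg), L.mul _ (inv_mem hg') _ hg, L.inv hg']
  have ffar : ∀ {g : G}, g ∈ C → f (g * k * g⁻¹) = F g * k' * (F g)⁻¹ := fun {g} hg => by
    have hx := far_not hg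
    have hxD := conj_mem hcls g hk
    rw [show f (g * k * g⁻¹) = _ from if_neg hx]
    exact (fix_iff (hγC _ hxD hx) hg).1 (hγ _ hxD hx)
  have hmemC : ∀ {x : G}, Commute d x → x ∈ C := fun hx => hCd hx.symm
  have fD : ∀ x ∈ D, f x ∈ D' := by
    intro x hx
    by_cases hdx : Commute d x
    · rw [fnear hdx]
      by_cases e : x = d
      · rw [e, L.self]; exact hd'
      · exact (L.mem_perp ⟨hx, e, hdx⟩).1
    · rw [← hγ x hx hdx, ffar (hγC x hx hdx)]; exact conj_mem hcls' _ hk'
  have hdf : ∀ x ∈ D, (Commute d' (f x) ↔ Commute d x) := by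
    intro x hx
    by_cases hdx : Commute d x
    · rw [fnear hdx, ← L.self, L.commute_iff (h.solid.self_mem d hd) (hmemC hdx)]
    · refine iff_of_false (fun e => hdk' ?_) hdx
      rw [← hγ x hx hdx, ffar (hγC x hx hdx)] at e
      refine (conj_commute_iff (F (γ x)) d' k').1 ?_
      rwa [(hFd (hγC x hx hdx)).eq, mul_inv_cancel_right]
  have hinj : Set.InjOn f D := by
    intro a ha b hb e
    have hab : Commute d a ↔ Commute d b := by rw [← hdf a ha, ← hdf b hb, e]
    by_cases hda : Commute d a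
    · rw [fnear hda, fnear (hab.1 hda)] at e
      exact L.inj a (hmemC hda) b (hmemC (hab.1 hda)) e
    · have hdb := fun k => hda (hab.2 k)
      rw [← hγ a ha hda, ← hγ b hb hdb] at e ⊢
      rw [ffar (hγC a ha hda), ffar (hγC b hb hdb)] at e
      exact (fix_iff (hγC a ha hda) (hγC b hb hdb)).2 e
  have hsurj : Set.SurjOn f D D' := by
    intro y hy
    by_cases hdy : Commute d' y
    · by_cases e : y = d'
      · exact ⟨d, hd, by rw [fnear (Commute.refl d), L.self, e]⟩
      · obtain ⟨x, hx, rfl⟩ := L.exists_perp (show y ∈ perp D' d' from ⟨hy, e, hdy⟩)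
        exact ⟨x, hx.1, fnear hx.2.2⟩
    · obtain ⟨g', hg', rfl⟩ := h'.solid.full.tower.rich.nonperp_transitive hd' hk' hdk' hy hdy
      obtain ⟨g, hg, rfl⟩ := L.onto g' (hCd' hg')
      exact ⟨g * k * g⁻¹, conj_mem hcls g hk, ffar hg⟩
  have fequiv : ∀ {g x : G}, g ∈ C → x ∈ D → f (g * x * g⁻¹) = F g * f x * (F g)⁻¹ := by
    intro g x hg hx
    by_cases hdx : Commute d x
    · rw [fnear hdx, fnear ?_, L.conj hg (hmemC hdx)]
      exact (closure_perp_commute (mul_mem (mul_mem hg (hmemC hdx)) (inv_mem hg))).symm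
    · rw [← hγ x hx hdx,
        show g * (γ x * k * (γ x)⁻¹) * g⁻¹ = g * γ x * k * (g * γ x)⁻¹ by group,
        ffar (mul_mem hg (hγC x hx hdx)), ffar (hγC x hx hdx), L.mul _ hg _ (hγC x hx hdx)]
      group
  have fk : f k = k' := by
    have := ffar (one_mem C)
    rwa [one_mul, inv_one, mul_one, L.one, one_mul, inv_one, mul_one] at this
  have hkk : ∀ b ∈ D, (Commute k' (f b) ↔ Commute k b) := by
    intro b hb
    by_cases hdb : Commute d b
    · rw [fnear hdb]
      exact ⟨fun e => ((hstab b (hmemC hdb)).2 e.symm).symm, fun e => ((hstab b (hmemC hdb)).1 e.symm).symm⟩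
    have himg : ∀ {y : G}, y ∈ perp D d →
        f (d * y * k * (d * y)⁻¹) = d' * F y * k' * (d' * F y)⁻¹ := fun {y} hy => by
      rw [ffar (mul_mem (h.solid.self_mem d hd) (subset_closure hy)),
        L.mul _ (h.solid.self_mem d hd) _ (subset_closure hy), L.self]
    constructor
    · intro e
      by_cases e' : f b = k'
      · rw [hinj hb hk (e'.trans fk.symm)]
      obtain ⟨y', hy', hyk', hbe⟩ := far_perp h' hd' hk' hdk' (show f b ∈ perp D' k' from ⟨fD b hb, e', e⟩)
        fun e => hdb ((hdf b hb).1 e)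
      obtain ⟨y, hy, rfl⟩ := L.exists_perp hy'
      have hyk : ¬ Commute y k := fun k0 => hyk' ((hstab y (subset_closure hy)).1 k0)
      have hc := (near_form h hd hk hdk hy hyk).2.1
      rw [hinj hb hc.1 (hbe.trans (himg hy).symm)]
      exact hc.2.2
    · intro e
      by_cases e' : b = k
      · rw [e', fk]
      obtain ⟨y, hy, hyk, rfl⟩ := far_perp h hd hk hdk (show b ∈ perp D k from ⟨hb, e', e⟩) hdb
      rw [himg hy]
      exact (near_form h' hd' hk' hdk' (L.mem_perp hy) fun k0 => hyk ((hstab y (subset_closure hy)).2 k0)).2.1.2.2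
  have hfar : ∀ x ∈ D, ∀ y ∈ D, ¬ Commute d y → (Commute (f x) (f y) ↔ Commute x y) := by
    intro x hx y hy hdy
    set g := γ y
    have hg : g ∈ C := hγC y hy hdy
    have hy' : g * k * g⁻¹ = y := hγ y hy hdy
    have hx' : g⁻¹ * x * g⁻¹⁻¹ ∈ D := conj_mem hcls g⁻¹ hx
    have ex : g * (g⁻¹ * x * g⁻¹⁻¹) * g⁻¹ = x := by group
    rw [← ex, ← hy', ffar hg, fequiv hg hx', conj_commute_iff, conj_commute_iff]
    exact ⟨fun e => ((hkk _ hx').1 e.symm).symm, fun e => ((hkk _ hx').2 e.symm).symm⟩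
  refine iso_of_conj hcls hcls' h.solid.full.tower.center_eq h'.solid.full.tower.center_eq ⟨fD, hinj, hsurj⟩
    (conj_of_commute h h' ⟨fD, hinj, hsurj⟩ fun x hx y hy => ?_)
  by_cases hdy : Commute d y
  · by_cases hdx : Commute d x
    · rw [fnear hdx, fnear hdy, L.commute_iff (hmemC hdx) (hmemC hdy)]
    · exact ⟨fun e => ((hfar y hy x hx hdx).1 e.symm).symm, fun e => ((hfar y hy x hx hdx).2 e.symm).symm⟩
  · exact hfar x hx y hy hdy

end Cfsg.Lib.ThreeTr.M24U

namespace Cfsg.Lib.ThreeTr.M24U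

open Cfsg Subgroup

universe u v

variable {G : Type u} [Group G] [Finite G] {G' : Type v} [Group G'] [Finite G'] {D : Set G} {D' : Set G'}

/-- An isomorphism of the descended classes gives one of the classes. -/
theorem exists_iso (h : M24 D) (h' : M24 D') {d : G} (hd : d ∈ D) {d' : G'} (hd' : d' ∈ D')
    (hQ : M23 (descSet D d)) (hQ' : M23 (descSet D' d'))
    (ε : (↥(closure (perp D d)) ⧸ center ↥(closure (perp D d))) ≃*
      (↥(closure (perp D' d')) ⧸ center ↥(closure (perp D' d'))))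
    (hε : ε '' descSet D d = descSet D' d') : ∃ e : G ≃* G', e '' D = D' := by
  obtain ⟨F, L⟩ := exists_lift h h' hd hd' hQ (model_desc h.solid.full.cls h.solid.full.tower.twin hd) hQ'
    (model_desc h'.solid.full.cls h'.solid.full.tower.twin hd') ε hε
  exact iso_of_lift h h' hd hd' L

end Cfsg.Lib.ThreeTr.M24U
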