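import Cfsg.Agent.ThreeTransposition.M24Unique.Model
import Cfsg.Agent.ThreeTransposition.Y332.Hyperoval

/-!
The common neighbours of two noncommuting members of a class of type M(24) as subsets of the neighbourhood of one of
them: they are determined by any local piece, and every other member of that neighbourhood commutes with a member of
each of their connected parts.
-/

set_option autoImplicit false
set_option linter.unusedSectionVars false

namespace Cfsg.Lib.ThreeTr.M24U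

open Cfsg Subgroup

attribute [local instance] _root_.Classical.propDecidable

universe u

variable {G : Type u} [Group G] {D : Set G}

/-- Common neighbours of two members. -/
abbrev Trace (D : Set G) (d c : G) : Set G := perp D d ∩ perp D c

theorem trace_flip (hcls : IsThreeTranspositionClass D) {d c : G} (hd : d ∈ D) (hc : c ∈ D) (hdc : ¬ Commute d c) :
    Trace D d (d * c * d) = Trace D d c := by
  have hd2 := sq_eq_one hcls.1 hd
  have key : ∀ c ∈ D, ¬ Commute d c → Trace D d c ⊆ Trace D d (d * c * d) := by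
    intro c hc hdc x hx
    refine ⟨hx.1, hx.1.1, fun e => hdc ?_, ?_⟩
    · have := hx.1.2.2
      rw [e] at this
      exact absurd this (not_commute_third hcls.1 hd hc hdc)
    · exact ((hx.1.2.2.mul_left hx.2.2.2).mul_left hx.1.2.2)
  refine Set.Subset.antisymm ?_ (key c hc hdc)
  have := key _ (conj_invol_mem hcls hd hc) (not_commute_third hcls.1 hd hc hdc)
  rwa [invol_conj_conj hd2] at this

/-- Two noncommuting members and the third one are the only ones commuting with all their common neighbours, in a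
model. -/
theorem Model.double {H : Type u} [Group H] [Finite H] {E : Set H} {S : Set G} {π : ↥(closure S) →* H}
    (M : Model S E π) {N k l m m' : ℕ} (hL : Level E N k l m m') (hcl : ∀ x ∈ S, ∀ y ∈ S, x * y * x ∈ S)
    {x y w : G} (hx : x ∈ S) (hy : y ∈ S) (hw : w ∈ S) (hxy : ¬ Commute x y)
    (hall : ∀ z ∈ S, Commute z x → Commute z y → Commute z w) : w = x ∨ w = y ∨ w = x * y * x := by
  rcases hL.double (π (gen hx)) (M.mem _ hx) (π (gen hy)) (M.mem _ hy) (fun e => hxy ((M.comm' hx hy).1 e))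
    (π (gen hw)) (M.mem _ hw) (fun z hz h1 h2 => by
      obtain ⟨z, hzS, rfl⟩ := M.onto z hz
      exact (M.comm z _ hzS hw).2 (hall z hzS ((M.comm z _ hzS hx).1 h1) ((M.comm z _ hzS hy).1 h2))) with e | e | e
  · exact Or.inl (M.inj' hw hx e)
  · exact Or.inr (Or.inl (M.inj' hw hy e))
  · refine Or.inr (Or.inr (M.inj' hw (hcl x hx y hy) (e.trans ?_)))
    rw [← map_mul, ← map_mul]
    rfl

theorem conj_closed (hcls : IsThreeTranspositionClass D) {f x y : G} (hx : x ∈ perp D f) (hy : y ∈ perp D f) :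
    x * y * x ∈ perp D f := by
  have := conj_mem_perp (fun g _ he => conj_mem hcls g he) (subset_closure (k := perp D f) hx) hy
  rwa [inv_eq hcls.1 hx.1] at this

variable [Finite G] (h : M24 D)
include h

theorem ncard_perp {p : G} (hp : p ∈ D) : (perp D p).ncard = 31671 := h.solid.full.tower.deg p hp

theorem ncard_trace {d c : G} (hd : d ∈ D) (hc : c ∈ D) (hdc : ¬ Commute d c) : (Trace D d c).ncard = 3240 :=
  h.solid.full.nonadj d hd c hc hdc

/-- A trace determines the member up to the first one, already near one of its elements. -/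
theorem eq_of_local {d y c c' : G} (hd : d ∈ D) (hy : y ∈ perp D d) (hc : c ∈ perp D y) (hc' : c' ∈ perp D y)
    (hdc : ¬ Commute d c) (hdc' : ¬ Commute d c')
    (heq : perp D d ∩ perp D y ∩ perp D c ⊆ perp D c') : c' = c ∨ c' = d * c * d := by
  obtain ⟨Q, _, _, E, π, hQ, M⟩ := exists_down h hy.1
  have hdy : d ∈ perp D y := ⟨hd, hy.2.1.symm, hy.2.2.symm⟩
  rcases M.double hQ.solid.full.level (fun x hx z hz => conj_closed h.solid.full.cls hx hz) hdy hc hc' hdc
    (fun z hz h1 h2 => by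
      refine (heq ⟨⟨⟨hz.1, fun e => hdc (e ▸ h2), h1.symm⟩, hz⟩, hz.1, fun e => hdc ?_, h2.symm⟩).2.2.symm
      exact (e ▸ h1).symm) with e | e | e
  · exact absurd (e ▸ Commute.refl d) hdc'
  · exact Or.inl e
  · exact Or.inr e

/-- The same with two commuting elements. -/
theorem eq_of_local₂ {d y x c c' : G} (hd : d ∈ D) (hy : y ∈ perp D d) (hx : x ∈ perp D d ∩ perp D y)
    (hc : c ∈ perp D y ∩ perp D x) (hc' : c' ∈ perp D y ∩ perp D x) (hdc : ¬ Commute d c) (hdc' : ¬ Commute d c')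
    (heq : perp D d ∩ perp D y ∩ perp D x ∩ perp D c ⊆ perp D c') : c' = c ∨ c' = d * c * d := by
  obtain ⟨P, _, _, E, π, hP, M⟩ := exists_down_two h hy.1 hx.2
  have hdy : d ∈ perp D y ∩ perp D x :=
    ⟨⟨hd, hy.2.1.symm, hy.2.2.symm⟩, hd, hx.1.2.1.symm, hx.1.2.2.symm⟩
  rcases M.double hP.level
    (fun x hx z hz => ⟨conj_closed h.solid.full.cls hx.1 hz.1, conj_closed h.solid.full.cls hx.2 hz.2⟩)
    hdy hc hc' hdc
    (fun z hz h1 h2 => by
      refine (heq ⟨⟨⟨⟨hz.1.1, fun e => hdc (e ▸ h2), h1.symm⟩, hz.1⟩, hz.2⟩, hz.1.1, fun e => hdc ?_, h2.symm⟩).2.2.symm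
      exact (e ▸ h1).symm) with e | e | e
  · exact absurd (e ▸ Commute.refl d) hdc'
  · exact Or.inl e
  · exact Or.inr e

section Component

variable {d c : G} {C : Set G} (hd : d ∈ D) (hc : c ∈ D) (hdc : ¬ Commute d c) (hsub : C ⊆ Trace D d c)
  (hne : C.Nonempty) (hclo : ∀ x ∈ C, Trace D d c ∩ perp D x ⊆ C)
include hd hc hdc hsub hne hclo

/-- Every member near `d` outside a trace commutes with a member of each connected part of the trace. -/
theorem exists_nbr {v : G} (hv : v ∈ perp D d) (hvT : v ∉ Trace D d c) : ∃ x ∈ C, Commute v x := by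
  have T := h.solid.full.tower
  set T0 := Trace D d c with hT0
  set Cs := (Set.toFinite C).toFinset with hCs
  set Vs := (Set.toFinite (perp D d \ T0)).toFinset with hVs
  let P : G → G → ℕ := fun a b => (perp D d ∩ perp D a ∩ perp D b).ncard
  let μ : G → G → ℕ := fun a b => (T0 ∩ perp D a ∩ perp D b).ncard
  let o : G → G → ℕ := fun a b => (Vs.filter fun w => Commute w a ∧ Commute w b).card
  have hmemp : ∀ x ∈ C, x ∈ perp D d ∧ d ∈ perp D x ∧ c ∈ perp D x := fun x hx =>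
    ⟨(hsub hx).1, ⟨hd, (hsub hx).1.2.1.symm, (hsub hx).1.2.2.symm⟩, hc, (hsub hx).2.2.1.symm, (hsub hx).2.2.2.symm⟩
  have hwC : ∀ x ∈ C, ∀ w ∈ Vs, w ≠ x := fun x hx w hw e => by
    rw [hVs, Set.Finite.mem_toFinset] at hw
    exact hw.2 (e ▸ hsub hx)
  have hsplit : ∀ a ∈ C, ∀ b ∈ C, o a b + μ a b = P a b := by
    intro a ha b hb
    have e : (((Vs.filter fun w => Commute w a ∧ Commute w b) : Finset G) : Set G) =
        (perp D d ∩ perp D a ∩ perp D b) \ (T0 ∩ perp D a ∩ perp D b) := by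
      ext w
      simp only [Finset.coe_filter, Set.mem_ofPred_eq, Set.mem_sdiff, Set.mem_inter_iff]
      constructor
      · rintro ⟨hw, h1, h2⟩
        have n1 := hwC a ha w hw
        have n2 := hwC b hb w hw
        rw [hVs, Set.Finite.mem_toFinset] at hw
        exact ⟨⟨⟨hw.1, hw.1.1, n1, h1.symm⟩, hw.1.1, n2, h2.symm⟩, fun k => hw.2 k.1.1⟩
      · rintro ⟨⟨⟨hw, h1⟩, h2⟩, h3⟩
        refine ⟨?_, h1.2.2.symm, h2.2.2.symm⟩
        rw [hVs, Set.Finite.mem_toFinset]
        exact ⟨hw, fun k => h3 ⟨⟨k, h1⟩, h2⟩⟩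
    show (Vs.filter fun w => Commute w a ∧ Commute w b).card + _ = _
    rw [← Set.ncard_coe_finset, e]
    exact Set.ncard_sdiff_add_ncard_of_subset (fun w hw => ⟨⟨hw.1.1.1, hw.1.2⟩, hw.2⟩) (Set.toFinite _)
  have h351 : ∀ x ∈ C, (T0 ∩ perp D x).ncard = 351 := by
    intro x hx
    obtain ⟨-, hdx, hcx⟩ := hmemp x hx
    rw [show T0 ∩ perp D x = perp D x ∩ perp D d ∩ perp D c by ext; simp [hT0]; tauto]
    exact T.tri_non x (hsub hx).1.1 d hdx c hcx hdc
  have hP0 : ∀ x ∈ C, P x x = 3510 := fun x hx => by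
    show (perp D d ∩ perp D x ∩ perp D x).ncard = 3510
    rw [Set.inter_assoc, Set.inter_self]
    exact T.adj d hd x (hsub hx).1
  have hdeg : ∀ x ∈ C, (Cs.filter fun y => y ∈ perp D x).card = 351 := by
    intro x hx
    rw [← h351 x hx, ← Set.ncard_coe_finset]
    congr 1
    ext y
    simp only [Finset.coe_filter, hCs, Set.Finite.mem_toFinset, Set.mem_ofPred_eq, Set.mem_inter_iff]
    exact ⟨fun ⟨h1, h2⟩ => ⟨hsub h1, h2⟩, fun hy => ⟨hclo x hx hy, hy.2⟩⟩
  have hPsum : ∀ a ∈ C, ∑ b ∈ Cs, P a b + 351 * 352 = 3510 + 351 * 693 + 351 * Cs.card := by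
    intro a ha
    have haC : a ∈ Cs := by rw [hCs, Set.Finite.mem_toFinset]; exact ha
    set A := Cs.filter fun y => y ∈ perp D a with hA
    set B := (Cs.erase a).filter fun y => y ∉ perp D a with hB
    have hAB : Cs.erase a = A ∪ B := by
      ext y
      simp only [hA, hB, Finset.mem_union, Finset.mem_filter, Finset.mem_erase]
      constructor
      · rintro ⟨h1, h2⟩
        by_cases e : y ∈ perp D a
        exacts [Or.inl ⟨h2, e⟩, Or.inr ⟨⟨h1, h2⟩, e⟩]
      · rintro (⟨h2, e⟩ | ⟨h1, -⟩)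
        exacts [⟨e.2.1, h2⟩, h1]
    have hdis : Disjoint A B := Finset.disjoint_left.2 fun y h1 h2 =>
      (Finset.mem_filter.1 h2).2 (Finset.mem_filter.1 h1).2
    have hPA : ∀ b ∈ A, P a b = 693 := by
      intro b hb
      rw [hA, Finset.mem_filter, hCs, Set.Finite.mem_toFinset] at hb
      exact T.tri_adj d hd a (hsub ha).1 b ⟨(hsub hb.1).1, hb.2⟩
    have hPB : ∀ b ∈ B, P a b = 351 := by
      intro b hb
      rw [hB, Finset.mem_filter, Finset.mem_erase, hCs, Set.Finite.mem_toFinset] at hb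
      refine T.tri_non d hd a (hsub ha).1 b (hsub hb.1.2).1 fun e => hb.2 ⟨(hsub hb.1.2).1.1, hb.1.1, e⟩
    have hcards : A.card + B.card + 1 = Cs.card := by
      rw [← Finset.card_union_of_disjoint hdis, ← hAB, Finset.card_erase_add_one haC]
    have hAc : A.card = 351 := hdeg a ha
    rw [← Finset.add_sum_erase _ _ haC, hAB, Finset.sum_union hdis, Finset.sum_congr rfl hPA,
      Finset.sum_congr rfl hPB, Finset.sum_const, Finset.sum_const, smul_eq_mul, smul_eq_mul, hP0 a ha]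
    omega
  have hμsum : ∀ a ∈ C, ∑ b ∈ Cs, μ a b = 351 * 351 := by
    intro a ha
    set A := Cs.filter fun y => y ∈ perp D a with hA
    have e : ∀ b ∈ Cs, μ a b = (A.filter fun w => w ∈ perp D b).card := by
      intro b _
      show (T0 ∩ perp D a ∩ perp D b).ncard = _
      rw [← Set.ncard_coe_finset]
      congr 1
      ext w
      simp only [hA, Finset.coe_filter, Finset.mem_filter, hCs, Set.Finite.mem_toFinset, Set.mem_ofPred_eq,
        Set.mem_inter_iff]
      exact ⟨fun hw => ⟨⟨hclo a ha hw.1, hw.1.2⟩, hw.2⟩, fun hw => ⟨⟨hsub hw.1.1, hw.1.2⟩, hw.2⟩⟩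
    rw [Finset.sum_congr rfl e, Finset.sum_congr rfl fun b _ => Finset.card_filter _ _, Finset.sum_comm]
    have e2 : ∀ w ∈ A, (∑ b ∈ Cs, if w ∈ perp D b then 1 else 0) = 351 := by
      intro w hw
      rw [hA, Finset.mem_filter, hCs, Set.Finite.mem_toFinset] at hw
      rw [← Finset.card_filter, ← hdeg w hw.1]
      congr 1
      refine Finset.filter_congr fun b hb => ?_
      rw [hCs, Set.Finite.mem_toFinset] at hb
      exact ⟨fun k => ⟨(hsub hb).1.1, k.2.1.symm, k.2.2.symm⟩, fun k => ⟨(hsub hw.1).1.1, k.2.1.symm, k.2.2.symm⟩⟩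
    rw [Finset.sum_congr rfl e2, Finset.sum_const, smul_eq_mul, hdeg a ha]
  have hosum : ∀ a ∈ C, ∑ b ∈ Cs, o a b = 351 * Cs.card := by
    intro a ha
    have e : ∑ b ∈ Cs, o a b + ∑ b ∈ Cs, μ a b = ∑ b ∈ Cs, P a b := by
      rw [← Finset.sum_add_distrib]
      exact Finset.sum_congr rfl fun b hb => hsplit a ha b (by rwa [hCs, Set.Finite.mem_toFinset] at hb)
    have := hPsum a ha
    have := hμsum a ha
    omega
  have hdiag : ∀ a ∈ C, o a a = 3159 := fun a ha => by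
    have h1 := hsplit a ha a ha
    have h2 := hP0 a ha
    have h3 : μ a a = 351 := by
      show (T0 ∩ perp D a ∩ perp D a).ncard = 351
      rw [Set.inter_assoc, Set.inter_self]
      exact h351 a ha
    omega
  let n : G → ℤ := fun w => ((Cs.filter fun a => Commute w a).card : ℤ)
  have hn : ∀ w, n w = ∑ a ∈ Cs, if Commute w a then (1 : ℤ) else 0 := fun w => by
    simp [n, Finset.sum_boole]
  have s1 : ∑ w ∈ Vs, n w = 3159 * (Cs.card : ℤ) := by
    simp only [hn]
    rw [Finset.sum_comm]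
    have e : ∀ a ∈ Cs, (∑ w ∈ Vs, if Commute w a then (1 : ℤ) else 0) = 3159 := by
      intro a ha
      rw [Finset.sum_boole]
      have e := hdiag a (by rwa [hCs, Set.Finite.mem_toFinset] at ha)
      simp only [o, and_self] at e
      exact_mod_cast e
    rw [Finset.sum_congr rfl e, Finset.sum_const, nsmul_eq_mul, mul_comm]
  have s2 : ∑ w ∈ Vs, n w * n w = 351 * (Cs.card : ℤ) * Cs.card := by
    simp only [hn, Finset.sum_mul_sum]
    rw [Finset.sum_comm]
    have e : ∀ a ∈ Cs, (∑ w ∈ Vs, ∑ b ∈ Cs, (if Commute w a then (1 : ℤ) else 0) * if Commute w b then 1 else 0) =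
        351 * (Cs.card : ℤ) := by
      intro a ha
      rw [Finset.sum_comm]
      have e1 : ∀ b ∈ Cs, (∑ w ∈ Vs, (if Commute w a then (1 : ℤ) else 0) * if Commute w b then 1 else 0) =
          (o a b : ℤ) := fun b _ => by
        simp only [o, ← ite_and, ite_mul, one_mul, zero_mul, Finset.sum_boole]
      rw [Finset.sum_congr rfl e1, ← Nat.cast_sum, hosum a (by rwa [hCs, Set.Finite.mem_toFinset] at ha)]
      push_cast; ring
    rw [Finset.sum_congr rfl e, Finset.sum_const, nsmul_eq_mul]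
    ring
  have s0 : (Vs.card : ℤ) = 28431 := by
    have h1 := Set.ncard_sdiff_add_ncard_of_subset (show T0 ⊆ perp D d from Set.inter_subset_left) (Set.toFinite _)
    rw [ncard_perp h hd, ncard_trace h hd hc hdc] at h1
    rw [hVs, ← Set.ncard_eq_toFinset_card]
    omega
  have hz : ∑ w ∈ Vs, (9 * n w - Cs.card) * (9 * n w - Cs.card) = 0 := by
    calc _ = ∑ w ∈ Vs, (81 * (n w * n w) - 18 * (Cs.card : ℤ) * n w + (Cs.card : ℤ) * Cs.card) :=
          Finset.sum_congr rfl fun w _ => by ring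
      _ = _ := by
        rw [Finset.sum_add_distrib, Finset.sum_sub_distrib, ← Finset.mul_sum, ← Finset.mul_sum, s1, s2,
          Finset.sum_const, nsmul_eq_mul, s0]
        ring
  have hvV : v ∈ Vs := by rw [hVs, Set.Finite.mem_toFinset]; exact ⟨hv, hvT⟩
  have hv0 := (Finset.sum_eq_zero_iff_of_nonneg fun w _ => mul_self_nonneg _).1 hz v hvV
  by_contra hno
  push Not at hno
  have hnv : n v = 0 := by
    simp only [n, Nat.cast_eq_zero, Finset.card_eq_zero, Finset.filter_eq_empty_iff, hCs, Set.Finite.mem_toFinset]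
    exact fun a ha => hno a ha
  rw [hnv] at hv0
  simp only [mul_zero, zero_sub, mul_self_eq_zero, neg_eq_zero, Nat.cast_eq_zero, Finset.card_eq_zero, hCs,
    Set.Finite.toFinset_eq_empty] at hv0
  exact hne.ne_empty hv0

end Component

/-- A set near `d` that is locally a trace is a trace. -/
theorem exists_trace {d : G} (hd : d ∈ D) {T' : Set G} (hT' : T' ⊆ perp D d) (hcard : T'.ncard = 3240)
    (hloc : ∀ x ∈ T', ∃ c ∈ perp D x, ¬ Commute d c ∧ T' ∩ perp D x = perp D d ∩ perp D x ∩ perp D c)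
    {x c : G} (hx : x ∈ T') (hcx : c ∈ perp D x) (hdc : ¬ Commute d c)
    (hxc : T' ∩ perp D x = perp D d ∩ perp D x ∩ perp D c) : T' = Trace D d c := by
  have hc := hcx.1
  let R : G → G → Prop := fun a b => a ∈ T' ∧ b ∈ T' ∩ perp D a
  set C := {v | Relation.ReflTransGen R x v} with hC
  have key : ∀ v ∈ C, v ∈ T' ∧ v ∈ Trace D d c ∧ T' ∩ perp D v = Trace D d c ∩ perp D v := by
    intro v hv
    have hx0 : x ∈ Trace D d c := ⟨hT' hx, (hT' hx).1, hcx.2.1.symm, hcx.2.2.symm⟩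
    induction hv with
    | refl => exact ⟨hx, hx0, hxc.trans (by ext; simp; tauto)⟩
    | @tail u v _ huv ih =>
      obtain ⟨-, hu0, hu⟩ := ih
      obtain ⟨hvT, hvu⟩ := huv.2
      have hv0 : v ∈ Trace D d c := (hu.subset ⟨hvT, hvu⟩).1
      refine ⟨hvT, hv0, ?_⟩
      obtain ⟨c', hc', hdc', e⟩ := hloc v hvT
      have hud : u ∈ perp D d ∩ perp D v :=
        ⟨hu0.1, hu0.1.1, hvu.2.1.symm, hvu.2.2.symm⟩
      have huc' : u ∈ perp D c' := (e.subset ⟨huv.1, hud.2⟩).2
      have hce : c' = c ∨ c' = d * c * d := by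
        refine eq_of_local₂ h hd hv0.1 hud ⟨⟨hc, hv0.2.2.1.symm, hv0.2.2.2.symm⟩, hc, hu0.2.2.1.symm, hu0.2.2.2.symm⟩
          ⟨hc', hc'.1, huc'.2.1.symm, huc'.2.2.symm⟩ hdc hdc' fun z hz => ?_
        have hzT : z ∈ T' := (hu.symm.subset ⟨⟨hz.1.1.1, hz.2⟩, hz.1.2⟩).1
        exact (e.subset ⟨hzT, hz.1.1.2⟩).2
      rw [e]
      have h2 : Trace D d c' = Trace D d c := by
        rcases hce with e | e
        · rw [e]
        · rw [e, trace_flip h.solid.full.cls hd hc hdc]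
      rw [← h2]
      ext; simp; tauto
  have hclo : ∀ v ∈ C, Trace D d c ∩ perp D v ⊆ C := fun v hv w hw =>
    Relation.ReflTransGen.tail hv ⟨(key v hv).1, (key v hv).2.2.symm.subset hw⟩
  have hsub : T' ⊆ Trace D d c := by
    intro v hv
    by_contra hvn
    obtain ⟨a, ha, hva⟩ := exists_nbr h hd hc hdc (fun v hv => (key v hv).2.1)
      ⟨x, Relation.ReflTransGen.refl⟩ hclo (hT' hv) hvn
    have hva' : v ∈ perp D a := ⟨(hT' hv).1, fun e => hvn (e ▸ (key a ha).2.1), hva.symm⟩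
    exact hvn ((key a ha).2.2.subset ⟨hv, hva'⟩).1
  exact Set.eq_of_subset_of_ncard_le hsub (by rw [hcard, ncard_trace h hd hc hdc]) (Set.toFinite _)

/-- The neighbourhood pieces of the two kinds are different. -/
theorem not_twin {d y z c : G} (hd : d ∈ D) (hy : y ∈ perp D d) (hz : z ∈ perp D d) (hyz : ¬ Commute y z)
    (hc : c ∈ perp D y) (hdc : ¬ Commute d c) : ¬ perp D d ∩ perp D y ∩ perp D z ⊆ perp D c := by
  intro hsub
  have T := h.solid.full.tower
  have hcount := T.tri_non d hd y hy z hz hyz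
  obtain ⟨f, hf⟩ := Set.nonempty_of_ncard_ne_zero (show (perp D d ∩ perp D y ∩ perp D z).ncard ≠ 0 by omega)
  have hfd : d ∈ perp D f := ⟨hd, hf.1.1.2.1.symm, hf.1.1.2.2.symm⟩
  have hfy : y ∈ perp D f := ⟨hy.1, hf.1.2.2.1.symm, hf.1.2.2.2.symm⟩
  have hfz : z ∈ perp D f := ⟨hz.1, hf.2.2.1.symm, hf.2.2.2.symm⟩
  have hcount' := T.quad_non f hf.1.1.1 d hfd y ⟨hfy, hy⟩ z ⟨hfz, hz⟩ hyz
  obtain ⟨u, hu⟩ := Set.nonempty_of_ncard_ne_zero
    (show (perp D f ∩ perp D d ∩ perp D y ∩ perp D z).ncard ≠ 0 by omega)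
  obtain ⟨⟨⟨huf, hud⟩, huy⟩, huz⟩ := hu
  have huW : u ∈ perp D d ∩ perp D y ∩ perp D z := ⟨⟨hud, huy⟩, huz⟩
  have hS : ∀ {a : G}, a ∈ D → a ∈ perp D f → u ∈ perp D a → a ∈ perp D f ∩ perp D u := fun ha haf hua =>
    ⟨haf, ha, hua.2.1.symm, hua.2.2.symm⟩
  have hfc := hsub hf
  have huc := hsub huW
  have Sd := hS hd hfd hud
  have Sy := hS hy.1 hfy huy
  have Sz := hS hz.1 hfz huz
  have Sc := hS hc.1 ⟨hc.1, hfc.2.1.symm, hfc.2.2.symm⟩ huc
  obtain ⟨P, _, _, E, π, hP, M⟩ := exists_down_two h hf.1.1.1 huf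
  have mE : ∀ {a : G} (ha : a ∈ perp D f ∩ perp D u), π (gen ha) ∈ E := fun ha => M.mem _ ha
  have mperp : ∀ {a b : G} (ha : a ∈ perp D f ∩ perp D u) (hb : b ∈ perp D f ∩ perp D u), b ∈ perp D a →
      π (gen hb) ∈ perp E (π (gen ha)) := fun ha hb hab =>
    ⟨mE hb, fun e => hab.2.1 (M.inj' hb ha e), (M.comm' ha hb).2 hab.2.2⟩
  have nyz : ¬ Commute (π (gen Sy)) (π (gen Sz)) := fun e => hyz ((M.comm' Sy Sz).1 e)
  have ndc : ¬ Commute (π (gen Sd)) (π (gen Sc)) := fun e => hdc ((M.comm' Sd Sc).1 e)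
  have pdy := mperp Sd Sy hy
  have pdz := mperp Sd Sz hz
  set W := {w | w ∈ perp E (π (gen Sd)) ∧ Commute w (π (gen Sy)) ∧ Commute w (π (gen Sz))} with hW
  have hWc : W.ncard = 45 := hP.ncard_pair (mE Sd) pdy pdz nyz
  have hWC : ∀ w ∈ W, w ∈ Y332.Common E (π (gen Sd)) (π (gen Sc)) := by
    rintro w ⟨hw, hwy, hwz⟩
    obtain ⟨a, ha, rfl⟩ := M.onto w hw.1
    refine ⟨hw, M.mem _ ha, fun e => ndc (e ▸ hw.2.2), ?_⟩
    have hcy : Commute (a : G) y := (M.comm a (gen Sy) ha Sy).1 hwy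
    have hcz : Commute (a : G) z := (M.comm a (gen Sz) ha Sz).1 hwz
    have hcd : Commute d (a : G) := (M.comm (gen Sd) a Sd ha).1 hw.2.2
    have haW : (a : G) ∈ perp D d ∩ perp D y ∩ perp D z :=
      ⟨⟨⟨ha.1.1, fun e => hw.2.1 (congrArg π (Subtype.ext e)), hcd⟩, ha.1.1,
        fun e => hyz (e ▸ hcz), hcy.symm⟩, ha.1.1, fun e => hyz (e ▸ hcy).symm, hcz.symm⟩
    exact (M.comm (gen Sc) a Sc ha).2 (hsub haW).2.2
  obtain ⟨w₁, hw₁⟩ := Set.nonempty_of_ncard_ne_zero (show W.ncard ≠ 0 by omega)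
  set U := {w | w ∈ perp E (π (gen Sd)) ∧ Commute w (π (gen Sy)) ∧ Commute w (π (gen Sz)) ∧ Commute w w₁} with hU
  have hUc : U.ncard = 13 := Y332.count_thirteen hP (mE Sd) pdy pdz nyz hw₁.1 hw₁.2.1 hw₁.2.2
  obtain ⟨w₂, hw₂, h21⟩ := Set.exists_ne_of_one_lt_ncard (show 1 < U.ncard by omega) w₁
  set F := {w | w ∈ perp E (π (gen Sd)) ∧ Commute w (π (gen Sy)) ∧ Commute w (π (gen Sz)) ∧ Commute w w₁ ∧
    Commute w w₂} with hF
  have hFc : F.ncard = 5 := Y332.count_five hP (mE Sd) pdy pdz nyz hw₁.1 hw₂.1 h21.symm hw₂.2.2.2.symm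
    hw₁.2.1 hw₁.2.2 hw₂.2.1 hw₂.2.2.1
  obtain ⟨w₃, hw₃, h31, h32⟩ : ∃ w ∈ F, w ≠ w₁ ∧ w ≠ w₂ := by
    by_contra hno
    push Not at hno
    have : F ⊆ {w₁, w₂} := fun w hw => (eq_or_ne w w₁).elim Or.inl fun e => Or.inr (hno w hw e)
    have := Set.ncard_le_ncard this (Set.toFinite _)
    have := Set.ncard_insert_le w₁ ({w₂} : Set P)
    rw [Set.ncard_singleton] at this
    omega
  exact Y332.no_triple hP (mE Sd) (mE Sc) ndc pdy pdz nyz (hWC _ hw₁) (hWC _ ⟨hw₂.1, hw₂.2.1, hw₂.2.2.1⟩)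
    (hWC _ ⟨hw₃.1, hw₃.2.1, hw₃.2.2.1⟩) h21.symm h31.symm h32.symm hw₂.2.2.2.symm hw₃.2.2.2.1.symm
    hw₃.2.2.2.2.symm hw₁.2.1 hw₁.2.2 hw₂.2.1 hw₂.2.2.1 hw₃.2.1 hw₃.2.2.1

end Cfsg.Lib.ThreeTr.M24U
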