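import Cfsg.Agent.ThreeTransposition.M24Unique.Trace
import Cfsg.Agent.ThreeTransposition.Y332.Iso
import Cfsg.Agent.FiPres.Aut
import Cfsg.Agent.ThreeTransposition.M24Count.PairDerived

/-!
An element exchanging two commuting members induces an outer automorphism on the group generated by the members
commuting with both. As that group has only one class of outer automorphisms, exchanges in two classes of type M(24)
can be matched.
-/

set_option autoImplicit false
set_option linter.unusedSectionVars false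

namespace Cfsg.Lib.ThreeTr.M24U

open Cfsg Subgroup

attribute [local instance] _root_.Classical.propDecidable

universe u v

variable {G : Type u} [Group G] {D : Set G}

/-- The members commuting with two. -/
abbrev Wset (D : Set G) (d x : G) : Set G := perp D d ∩ perp D x

theorem conj_perp (hcls : IsThreeTranspositionClass D) {g p q z : G} (hq : g * p * g⁻¹ = q) (hz : z ∈ perp D p) :
    g * z * g⁻¹ ∈ perp D q := by
  rw [← hq, ← conj_image_perp hcls g p]; exact ⟨z, hz, rfl⟩

theorem conj_perp_iff (hcls : IsThreeTranspositionClass D) {g p q z : G} (hq : g * p * g⁻¹ = q) :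
    g * z * g⁻¹ ∈ perp D q ↔ z ∈ perp D p := by
  refine ⟨fun k => ?_, conj_perp hcls hq⟩
  have := conj_perp hcls (g := g⁻¹) (show g⁻¹ * q * g⁻¹⁻¹ = p by rw [← hq]; group) k
  simpa [mul_assoc] using this

/-- An element exchanging two members. -/
structure Exch (d x w : G) : Prop where
  fst : w * d * w⁻¹ = x
  snd : w * x * w⁻¹ = d

theorem Exch.inv {d x w : G} (hw : Exch d x w) : Exch d x w⁻¹ :=
  ⟨by rw [← hw.snd]; group, by rw [← hw.fst]; group⟩

theorem Exch.mem_W (hcls : IsThreeTranspositionClass D) {d x w u : G} (hw : Exch d x w) (hu : u ∈ Wset D d x) :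
    w * u * w⁻¹ ∈ Wset D d x :=
  ⟨conj_perp hcls hw.snd hu.2, conj_perp hcls hw.fst hu.1⟩

theorem conj_W (hcls : IsThreeTranspositionClass D) {d x : G} :
    ∀ u ∈ Wset D d x, ∀ g ∈ closure (Wset D d x), g * u * g⁻¹ ∈ Wset D d x := fun _ hu _ hg =>
  ⟨conj_mem_perp (fun g _ he => conj_mem hcls g he) (closure_mono Set.inter_subset_left hg) hu.1,
    conj_mem_perp (fun g _ he => conj_mem hcls g he) (closure_mono Set.inter_subset_right hg) hu.2⟩

theorem map_W (hcls : IsThreeTranspositionClass D) {d x w : G} (hw : Exch d x w) :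
    (closure (Wset D d x)).map (MulAut.conj w).toMonoidHom = closure (Wset D d x) := by
  rw [MonoidHom.map_closure]
  congr 1
  ext u
  refine ⟨?_, fun hu => ⟨w⁻¹ * u * w⁻¹⁻¹, hw.inv.mem_W hcls hu, by simp [mul_assoc]⟩⟩
  rintro ⟨v, hv, rfl⟩
  exact hw.mem_W hcls hv

/-- Automorphisms act on the quotient by the centre. -/
noncomputable def centreQuot {K : Type*} [Group K] (a : MulAut K) : MulAut (K ⧸ center K) :=
  QuotientGroup.congr (center K) (center K) a (by
    ext y
    obtain ⟨z, rfl⟩ := a.surjective y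
    constructor
    · rintro ⟨z', hz', e⟩
      obtain rfl : z' = z := a.injective e
      refine mem_center_iff.2 fun k => ?_
      obtain ⟨k, rfl⟩ := a.surjective k
      show a k * a z' = a z' * a k
      rw [← map_mul, ← map_mul, mem_center_iff.1 hz' k]
    · intro hz
      refine ⟨z, mem_center_iff.2 fun k => a.injective ?_, rfl⟩
      rw [map_mul, map_mul]
      exact mem_center_iff.1 hz (a k))

theorem centreQuot_mk {K : Type*} [Group K] (a : MulAut K) (k : K) :
    centreQuot a (k : K ⧸ center K) = ((a k : K) : K ⧸ center K) := rfl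

/-- Two outer automorphisms differ by an inner one when there are at most twice as many as elements. -/
theorem differ_by_inner {Q : Type*} [Group Q] [Finite Q] (hZ : center Q = ⊥)
    (hA : Nat.card (MulAut Q) ≤ 2 * Nat.card Q) {a b : MulAut Q} (ha : a ∉ (MulAut.conj : Q →* MulAut Q).range)
    (hb : b ∉ (MulAut.conj : Q →* MulAut Q).range) : ∃ g : Q, a = MulAut.conj g * b := by
  set R := (MulAut.conj : Q →* MulAut Q).range with hR
  have hinj : Function.Injective (MulAut.conj : Q →* MulAut Q) := (injective_iff_map_eq_one _).2 fun g hg => by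
    rw [← mem_bot, ← hZ, mem_center_iff]
    intro k
    have := congrArg (fun t : MulAut Q => t k) hg
    simp only [MulAut.conj_apply, MulAut.one_apply] at this
    exact (mul_inv_eq_iff_eq_mul.1 this).symm
  haveI : Finite (MulAut Q) := Finite.of_injective (fun e : MulAut Q => (e : Q → Q)) DFunLike.coe_injective
  have hc : Nat.card R = Nat.card Q := Nat.card_congr (MonoidHom.ofInjective hinj).symm.toEquiv
  have hi := R.card_mul_index
  rw [hc] at hi
  have hpos : 0 < Nat.card Q := Nat.card_pos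
  have h1 : R.index ≠ 1 := fun e => ha (by rw [index_eq_one.1 e]; exact mem_top a)
  have h0 : R.index ≠ 0 := Subgroup.index_ne_zero_of_finite
  have h2 : R.index = 2 := by
    have : R.index ≤ 2 := Nat.le_of_mul_le_mul_left (by rw [hi]; linarith) hpos
    omega
  obtain ⟨g, hg⟩ := (mul_mem_iff_of_index_two h2).2
    (iff_of_false ha (fun k => hb (by simpa using inv_mem k)) : a ∈ R ↔ b⁻¹ ∈ R)
  exact ⟨g, by rw [hg, inv_mul_cancel_right]⟩

variable [Finite G] (h : M24 D)
include h

/-- The group generated by the members commuting with two has few automorphisms modulo its centre. -/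
theorem W_quot {d x : G} (hd : d ∈ D) (hx : x ∈ perp D d) :
    center (↥(closure (Wset D d x)) ⧸ center ↥(closure (Wset D d x))) = ⊥ ∧
      Nat.card (MulAut (↥(closure (Wset D d x)) ⧸ center ↥(closure (Wset D d x)))) ≤
        2 * Nat.card (↥(closure (Wset D d x)) ⧸ center ↥(closure (Wset D d x))) ∧
      ∀ u v : ↥(closure (Wset D d x)), (u : G) ∈ Wset D d x → (v : G) ∈ Wset D d x →
        (u : _ ⧸ center ↥(closure (Wset D d x))) = v → u = v := by
  obtain ⟨P, _, _, E, π, hP, M⟩ := exists_down_two h hd hx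
  have hk := M.ker_eq (conj_W h.solid.full.cls) hP.center_eq
  let i : (↥(closure (Wset D d x)) ⧸ center ↥(closure (Wset D d x))) ≃* P :=
    (QuotientGroup.quotientMulEquivOfEq hk.symm).trans (QuotientGroup.quotientKerEquivOfSurjective π M.surj)
  obtain ⟨e, -⟩ := Y332.exists_iso hP
  let j := i.trans e.symm
  haveI := Cfsg.Lib.FiPres.finite_fi
  refine ⟨?_, ?_, fun u v hu hv e => ?_⟩
  · refine eq_bot_iff.2 fun z hz => ?_
    have : i z ∈ center P := mem_center_iff.2 fun g => by
      obtain ⟨g, rfl⟩ := i.surjective g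
      rw [← map_mul, ← map_mul, mem_center_iff.1 hz g]
    rw [hP.center_eq, mem_bot, map_eq_one_iff i i.injective] at this
    exact mem_bot.2 this
  · have h1 := Cfsg.Lib.FiPres.card_mulAut
    have h2 := Cfsg.Lib.FiPres.factG.1
    rw [Nat.card_congr (MulAut.congr j).toEquiv, Nat.card_congr j.toEquiv]
    omega
  · refine M.inj u v hu hv ?_
    have : u⁻¹ * v ∈ π.ker := by rw [hk]; exact QuotientGroup.eq.1 e
    rwa [MonoidHom.mem_ker, map_mul, map_inv, inv_mul_eq_one] at this

/-- An exchange does not act as an element of that group. -/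
theorem exch_outer {d x w : G} (hd : d ∈ D) (hx : x ∈ perp D d) (hw : Exch d x w) :
    ¬ ∃ g ∈ closure (Wset D d x), ∀ u ∈ Wset D d x, w * u * w⁻¹ = g * u * g⁻¹ := by
  rintro ⟨g, hg, hgu⟩
  have hcls := h.solid.full.cls
  obtain ⟨z, hz, hxz⟩ : ∃ z ∈ perp D d, ¬ Commute x z := by
    by_contra hno
    push Not at hno
    have hs : perp D d ⊆ insert x (perp D d ∩ perp D x) := fun z hz =>
      (eq_or_ne z x).elim Or.inl fun e => Or.inr ⟨hz, hz.1, e, hno z hz⟩
    have := Set.ncard_le_ncard hs (Set.toFinite _)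
    have := Set.ncard_insert_le x (perp D d ∩ perp D x)
    rw [ncard_perp h hd, h.solid.full.tower.adj d hd x hx] at *
    omega
  have egd : g * d * g⁻¹ = d := by
    rw [(closure_perp_commute (closure_mono Set.inter_subset_left hg)).eq, mul_inv_cancel_right]
  have egx : g * x * g⁻¹ = x := by
    rw [(closure_perp_commute (closure_mono Set.inter_subset_right hg)).eq, mul_inv_cancel_right]
  have egd' : g⁻¹ * d * g⁻¹⁻¹ = d := by nth_rw 1 [← egd]; group
  have egx' : g⁻¹ * x * g⁻¹⁻¹ = x := by nth_rw 1 [← egx]; group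
  set z' := g⁻¹ * z * g⁻¹⁻¹ with hz'
  have hz'd : z' ∈ perp D d := conj_perp hcls egd' hz
  have hxz' : ¬ Commute x z' := fun k => hxz ((conj_commute_iff g⁻¹ x z).1 (by rw [egx']; exact k))
  set c := w * z' * w⁻¹ with hc
  have hcx : c ∈ perp D x := conj_perp hcls hw.fst hz'd
  have hdc : ¬ Commute d c := fun k => hxz' ((conj_commute_iff w x z').1 (by rw [hw.snd]; exact k))
  refine not_twin h hd hx hz hxz hcx hdc fun u hu => ?_
  set v := g⁻¹ * u * g⁻¹⁻¹ with hv
  have hvW : v ∈ Wset D d x := ⟨conj_perp hcls egd' hu.1.1, conj_perp hcls egx' hu.1.2⟩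
  have he : u = w * v * w⁻¹ := by rw [hgu v hvW, hv]; group
  rw [he, hc]
  exact conj_perp hcls rfl (conj_perp hcls rfl hu.2)

end Cfsg.Lib.ThreeTr.M24U

namespace Cfsg.Lib.ThreeTr.M24U

open Cfsg Subgroup

universe u v

variable {G : Type u} [Group G] {G' : Type v} [Group G'] {D : Set G} {D' : Set G'} {d : G} {d' : G'}

/-- A correspondence between the centralisers of two members. -/
structure Lift (D : Set G) (D' : Set G') (d : G) (d' : G') (F : G → G') : Prop where
  mul : ∀ a ∈ closure (perp D d), ∀ b ∈ closure (perp D d), F (a * b) = F a * F b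
  maps : ∀ a ∈ closure (perp D d), F a ∈ closure (perp D' d')
  inj : ∀ a ∈ closure (perp D d), ∀ b ∈ closure (perp D d), F a = F b → a = b
  onto : ∀ b ∈ closure (perp D' d'), ∃ a ∈ closure (perp D d), F a = b
  self : F d = d'
  perp_iff : ∀ a ∈ closure (perp D d), (F a ∈ perp D' d' ↔ a ∈ perp D d)

namespace Lift

variable {F : G → G'} (L : Lift D D' d d' F)
include L

theorem one : F 1 = 1 := by
  have := L.mul 1 (one_mem _) 1 (one_mem _)
  rwa [mul_one, eq_comm, mul_eq_left] at this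

theorem inv {a : G} (ha : a ∈ closure (perp D d)) : F a⁻¹ = (F a)⁻¹ := by
  refine eq_inv_of_mul_eq_one_left ?_
  rw [← L.mul _ (inv_mem ha) _ ha, inv_mul_cancel, L.one]

theorem conj {a b : G} (ha : a ∈ closure (perp D d)) (hb : b ∈ closure (perp D d)) :
    F (a * b * a⁻¹) = F a * F b * (F a)⁻¹ := by
  rw [L.mul _ (mul_mem ha hb) _ (inv_mem ha), L.mul _ ha _ hb, L.inv ha]

theorem commute_iff {a b : G} (ha : a ∈ closure (perp D d)) (hb : b ∈ closure (perp D d)) :
    Commute (F a) (F b) ↔ Commute a b :=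
  ⟨fun k => L.inj _ (mul_mem ha hb) _ (mul_mem hb ha) (by rw [L.mul _ ha _ hb, L.mul _ hb _ ha, k.eq]),
    fun k => show F a * F b = F b * F a by rw [← L.mul _ ha _ hb, ← L.mul _ hb _ ha, k.eq]⟩

theorem mem_perp {u : G} (hu : u ∈ perp D d) : F u ∈ perp D' d' :=
  (L.perp_iff u (subset_closure hu)).2 hu

theorem exists_perp {u' : G'} (hu : u' ∈ perp D' d') : ∃ u ∈ perp D d, F u = u' := by
  obtain ⟨u, hu', rfl⟩ := L.onto u' (subset_closure hu)
  exact ⟨u, (L.perp_iff u hu').1 hu, rfl⟩

theorem inj_perp {u v : G} (hu : u ∈ perp D d) (hv : v ∈ perp D d) (e : F u = F v) : u = v :=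
  L.inj u (subset_closure hu) v (subset_closure hv) e

theorem adj_iff {x u : G} (hx : x ∈ perp D d) (hu : u ∈ perp D d) : F u ∈ perp D' (F x) ↔ u ∈ perp D x :=
  ⟨fun k => ⟨hu.1, fun e => k.2.1 (by rw [e]),
    (L.commute_iff (subset_closure hx) (subset_closure hu)).1 k.2.2⟩,
    fun k => ⟨(L.mem_perp hu).1, fun e => k.2.1 (L.inj_perp hu hx e),
      (L.commute_iff (subset_closure hx) (subset_closure hu)).2 k.2.2⟩⟩

variable [Finite G] [Finite G'] (h : M24 D) (h' : M24 D') (hd : d ∈ D) (hd' : d' ∈ D')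
include h h' hd hd'

/-- Exchanges correspond. -/
theorem exists_exch {x w : G} (hx : x ∈ perp D d) (hw : Exch d x w) :
    ∃ w' : G', Exch d' (F x) w' ∧ ∀ g ∈ closure (perp D d), Commute g x →
      w * g * w⁻¹ ∈ closure (perp D d) ∧ F (w * g * w⁻¹) = w' * F g * w'⁻¹ := by
  have hcls := h.solid.full.cls
  have hcls' := h'.solid.full.cls
  obtain ⟨χ, hχ⟩ := h'.exists_sign
  have hx' := L.mem_perp hx
  obtain ⟨w₂, -, e1, e2⟩ := h'.exists_exchange hχ hd' hx'
  have hw₂ : Exch d' (F x) w₂ := ⟨e1, e2⟩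
  set W := Wset D d x with hW
  set W' := Wset D' d' (F x) with hW'
  have hle : closure W ≤ closure (perp D d) := closure_mono Set.inter_subset_left
  have hFW : ∀ u ∈ W, F u ∈ W' := fun u hu => ⟨L.mem_perp hu.1, (L.adj_iff hx hu.1).2 hu.2⟩
  have hWF : ∀ v ∈ W', ∃ u ∈ W, F u = v := by
    intro v hv
    obtain ⟨u, hu, rfl⟩ := L.exists_perp hv.1
    exact ⟨u, ⟨hu, (L.adj_iff hx hu).1 hv.2⟩, rfl⟩
  let f : ↥(closure W) →* G' := MonoidHom.mk' (fun g => F g) fun a b => L.mul _ (hle a.2) _ (hle b.2)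
  have hrange : f.range = closure W' := by
    have htop : (⊤ : Subgroup ↥(closure W)) = Subgroup.closure (((↑) : ↥(closure W) → G) ⁻¹' W) :=
      (closure_closure_coe_preimage).symm
    rw [MonoidHom.range_eq_map, htop, MonoidHom.map_closure]
    congr 1
    ext v
    refine ⟨?_, fun hv => ?_⟩
    · rintro ⟨u, hu, rfl⟩
      exact hFW _ hu
    · obtain ⟨u, hu, rfl⟩ := hWF v hv
      exact ⟨⟨u, subset_closure hu⟩, hu, rfl⟩
  have hfinj : Function.Injective f := fun a b e => Subtype.ext (L.inj _ (hle a.2) _ (hle b.2) e)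
  let i : ↥(closure W) ≃* ↥(closure W') :=
    (MonoidHom.ofInjective hfinj).trans (MulEquiv.subgroupCongr hrange)
  have hi : ∀ g : ↥(closure W), (i g : G') = F g := fun _ => rfl
  let a₁ : MulAut ↥(closure W) :=
    ((MulAut.conj w).subgroupMap (closure W)).trans (MulEquiv.subgroupCongr (map_W hcls hw))
  let b₂ : MulAut ↥(closure W') :=
    ((MulAut.conj w₂).subgroupMap (closure W')).trans (MulEquiv.subgroupCongr (map_W hcls' hw₂))
  let a₂ : MulAut ↥(closure W) := (i.trans b₂).trans i.symm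
  have ha₁ : ∀ g : ↥(closure W), (a₁ g : G) = w * g * w⁻¹ := fun _ => rfl
  have ha₂ : ∀ g : ↥(closure W), F (a₂ g : G) = w₂ * F g * w₂⁻¹ := fun g => by
    rw [← hi, ← hi g]
    show ((i (i.symm (b₂ (i g))) : ↥(closure W')) : G') = _
    rw [i.apply_symm_apply]
    rfl
  obtain ⟨hZ, hA, hinjq⟩ := W_quot h hd hx
  have hcW := conj_W hcls (d := d) (x := x)
  have houter : ∀ a : MulAut ↥(closure W), (∀ u : ↥(closure W), (u : G) ∈ W → (a u : G) ∈ W) →
      centreQuot a ∈ (MulAut.conj : _ →* MulAut (↥(closure W) ⧸ center ↥(closure W))).range →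
      ∃ g : ↥(closure W), ∀ u : ↥(closure W), (u : G) ∈ W → a u = g * u * g⁻¹ := by
    rintro a haW ⟨q, hq⟩
    obtain ⟨g, rfl⟩ := QuotientGroup.mk_surjective q
    refine ⟨g, fun u hu => hinjq _ _ (haW u hu) (hcW _ hu _ g.2) ?_⟩
    rw [← centreQuot_mk, ← hq]
    rfl
  have ha₁W : ∀ u : ↥(closure W), (u : G) ∈ W → (a₁ u : G) ∈ W := fun u hu => hw.mem_W hcls hu
  have ha₂W : ∀ u : ↥(closure W), (u : G) ∈ W → (a₂ u : G) ∈ W := fun u hu => by
    have hm := hw₂.mem_W hcls' (hFW _ hu)
    rw [← ha₂] at hm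
    have hp := (L.perp_iff _ (hle (a₂ u).2)).1 hm.1
    exact ⟨hp, (L.adj_iff hx hp).1 hm.2⟩
  have n₁ : centreQuot a₁ ∉ (MulAut.conj : _ →* MulAut (↥(closure W) ⧸ center ↥(closure W))).range := fun k => by
    obtain ⟨g, hg⟩ := houter a₁ ha₁W k
    exact exch_outer h hd hx hw ⟨g, g.2, fun u hu => congrArg Subtype.val (hg ⟨u, subset_closure hu⟩ hu)⟩
  have n₂ : centreQuot a₂ ∉ (MulAut.conj : _ →* MulAut (↥(closure W) ⧸ center ↥(closure W))).range := fun k => by
    obtain ⟨g, hg⟩ := houter a₂ ha₂W k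
    refine exch_outer h' hd' hx' hw₂ ⟨i g, (i g).2, fun v hv => ?_⟩
    obtain ⟨u, hu, rfl⟩ := hWF v hv
    rw [← ha₂ ⟨u, subset_closure hu⟩, hg _ hu]
    exact L.conj (hle g.2) (hle (subset_closure hu))
  obtain ⟨q, hq⟩ := differ_by_inner hZ hA n₂ n₁
  obtain ⟨g, rfl⟩ := QuotientGroup.mk_surjective q
  have key : ∀ u : ↥(closure W), (u : G) ∈ W → a₂ u = g * a₁ u * g⁻¹ := by
    intro u hu
    refine hinjq _ _ (ha₂W u hu) (hcW _ (ha₁W u hu) _ g.2) ?_
    rw [← centreQuot_mk, hq]
    rfl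
  have hgd : Commute (F g) d' := closure_perp_commute (L.maps _ (hle g.2))
  have hgx : Commute (F g) (F x) :=
    (L.commute_iff (hle g.2) (subset_closure hx)).2
      (closure_perp_commute (closure_mono Set.inter_subset_right g.2))
  set w' := (F g)⁻¹ * w₂ with hw'
  have hw'E : Exch d' (F x) w' := by
    refine ⟨?_, ?_⟩
    · calc w' * d' * w'⁻¹ = (F g)⁻¹ * (w₂ * d' * w₂⁻¹) * F g := by rw [hw']; group
        _ = F x := by rw [hw₂.fst, mul_assoc, ← hgx.eq, inv_mul_cancel_left]
    · calc w' * F x * w'⁻¹ = (F g)⁻¹ * (w₂ * F x * w₂⁻¹) * F g := by rw [hw']; group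
        _ = d' := by rw [hw₂.snd, mul_assoc, ← hgd.eq, inv_mul_cancel_left]
  have hgen : ∀ u ∈ W, F (w * u * w⁻¹) = w' * F u * w'⁻¹ := by
    intro u hu
    have e := congrArg (fun t : ↥(closure W) => F (t : G)) (key ⟨u, subset_closure hu⟩ hu)
    simp only [ha₂, coe_mul, coe_inv, ha₁] at e
    rw [L.conj (hle g.2) (hle (subset_closure (hw.mem_W hcls hu)))] at e
    calc F (w * u * w⁻¹) = (F g)⁻¹ * (F g * F (w * u * w⁻¹) * (F g)⁻¹) * F g := by group
      _ = _ := by rw [← e, hw']; group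
  refine ⟨w', hw'E, ?_⟩
  let Q : Subgroup G :=
    { carrier := {g | g ∈ closure (perp D d) ∧ w * g * w⁻¹ ∈ closure (perp D d) ∧
        F (w * g * w⁻¹) = w' * F g * w'⁻¹}
      one_mem' := ⟨one_mem _, by simp, by simp [L.one]⟩
      mul_mem' := fun {a b} ha hb => by
        obtain ⟨a1, a2, a3⟩ := ha
        obtain ⟨b1, b2, b3⟩ := hb
        refine ⟨mul_mem a1 b1, ?_, ?_⟩
        · rw [show w * (a * b) * w⁻¹ = w * a * w⁻¹ * (w * b * w⁻¹) by group]; exact mul_mem a2 b2
        · rw [show w * (a * b) * w⁻¹ = w * a * w⁻¹ * (w * b * w⁻¹) by group, L.mul _ a2 _ b2, a3, b3,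
            L.mul _ a1 _ b1]
          group
      inv_mem' := fun {a} ha => by
        obtain ⟨a1, a2, a3⟩ := ha
        refine ⟨inv_mem a1, ?_, ?_⟩
        · rw [show w * a⁻¹ * w⁻¹ = (w * a * w⁻¹)⁻¹ by group]; exact inv_mem a2
        · rw [show w * a⁻¹ * w⁻¹ = (w * a * w⁻¹)⁻¹ by group, L.inv a2, a3, L.inv a1]
          group }
  have hQW : closure W ≤ Q := (closure_le _).2 fun u hu =>
    ⟨hle (subset_closure hu), hle (subset_closure (hw.mem_W hcls hu)), hgen u hu⟩
  have hQd : d ∈ Q := ⟨h.solid.self_mem d hd, by rw [hw.fst]; exact subset_closure hx, by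
    rw [hw.fst, L.self, hw'E.fst]⟩
  intro a ha hax
  obtain ⟨k, hk, z, hz, hzc, rfl⟩ := h.solid.stab d hd x hx a ha hax
  have hkz : k * z ∈ Q := mul_mem (hQW hk) (by
    rcases h.solid.full.eq_one_or_self hd (closure_perp_commute hzc).symm hz with e | e <;> rw [e]
    exacts [one_mem _, hQd])
  exact ⟨hkz.2.1, hkz.2.2⟩

end Lift

end Cfsg.Lib.ThreeTr.M24U
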