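import Cfsg.Agent.ThreeTransposition.M24Unique.Swap

/-!
A correspondence of the centralisers of two members carries traces to traces and the stabilisers of the other members
to stabilisers.
-/

set_option autoImplicit false
set_option linter.unusedSectionVars false

namespace Cfsg.Lib.ThreeTr.M24U

open Cfsg Subgroup

attribute [local instance] _root_.Classical.propDecidable

universe u v

variable {G : Type u} [Group G] {D : Set G}

/-- Two members of a trace have a common noncommuting partner there. -/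
theorem trace_transitive [Finite G] (h : M24 D) {d c : G} (hd : d ∈ D) (hc : c ∈ D) (hdc : ¬ Commute d c) {u v : G}
    (hu : u ∈ Trace D d c) (hv : v ∈ Trace D d c) : ∃ t ∈ closure (Trace D d c), t * u * t⁻¹ = v := by
  have hE := h.solid.full.cls.1
  have T := h.solid.full.tower
  have hcard : ∀ a ∈ Trace D d c, ({w | w ∈ Trace D d c ∧ Commute a w}).ncard ≤ 352 := by
    intro a ha
    have hs : {w | w ∈ Trace D d c ∧ Commute a w} ⊆ insert a (perp D a ∩ perp D d ∩ perp D c) := fun w hw =>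
      (eq_or_ne w a).elim Or.inl fun e => Or.inr ⟨⟨⟨hw.1.1.1, e, hw.2⟩, hw.1.1⟩, hw.1.2⟩
    have h1 := Set.ncard_le_ncard hs (Set.toFinite _)
    have h2 := Set.ncard_insert_le a (perp D a ∩ perp D d ∩ perp D c)
    have h3 := T.tri_non a ha.1.1 d ⟨hd, ha.1.2.1.symm, ha.1.2.2.symm⟩ c ⟨hc, ha.2.2.1.symm, ha.2.2.2.symm⟩ hdc
    omega
  obtain ⟨w, hw, huw, hvw⟩ : ∃ w ∈ Trace D d c, ¬ Commute u w ∧ ¬ Commute v w := by
    by_contra hno
    push Not at hno
    have hs : Trace D d c ⊆ {w | w ∈ Trace D d c ∧ Commute u w} ∪ {w | w ∈ Trace D d c ∧ Commute v w} :=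
      fun w hw => by
        by_cases k : Commute u w
        exacts [Or.inl ⟨hw, k⟩, Or.inr ⟨hw, hno w hw k⟩]
    have := Set.ncard_le_ncard hs (Set.toFinite _)
    have := Set.ncard_union_le {w | w ∈ Trace D d c ∧ Commute u w} {w | w ∈ Trace D d c ∧ Commute v w}
    have := hcard u hu
    have := hcard v hv
    have := ncard_trace h hd hc hdc
    omega
  refine ⟨w * v * (u * w), mul_mem (mul_mem (subset_closure hw) (subset_closure hv))
    (mul_mem (subset_closure hu) (subset_closure hw)), ?_⟩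
  calc w * v * (u * w) * u * (w * v * (u * w))⁻¹ = w * v * (u * w * u * (u * w)⁻¹) * (w * v)⁻¹ := by group
    _ = v := by rw [mul_conj_eq hE hu.1.1 hw.1.1 huw, mul_conj_eq hE hw.1.1 hv.1.1 fun e => hvw e.symm]

variable {G' : Type v} [Group G'] {D' : Set G'} {d : G} {d' : G'} {F : G → G'}
  [Finite G] [Finite G'] (L : Lift D D' d d' F) (h : M24 D) (h' : M24 D') (hd : d ∈ D) (hd' : d' ∈ D')
include L h h' hd hd'

theorem exists_local {x : G} (hx : x ∈ perp D d) {c' : G'} (hdc : ¬ Commute d' c') (hxc : c' ∈ perp D' (F x)) :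
    ∃ c ∈ perp D x, ¬ Commute d c ∧ ∀ u ∈ perp D d ∩ perp D x, (u ∈ perp D c ↔ F u ∈ perp D' c') := by
  have hcls := h.solid.full.cls
  have hcls' := h'.solid.full.cls
  obtain ⟨χ, hχ⟩ := h.exists_sign
  obtain ⟨w, -, e1, e2⟩ := h.exists_exchange hχ hd hx
  have hw : Exch d x w := ⟨e1, e2⟩
  obtain ⟨w', hw', hF⟩ := L.exists_exch h h' hd hd' hx hw
  obtain ⟨z, hz, hFz⟩ := L.exists_perp (conj_perp hcls' hw'.inv.snd hxc)
  have hzc : w' * F z * w'⁻¹ = c' := by rw [hFz]; group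
  have hxz : ¬ Commute x z := fun k => hdc (by
    rw [← hzc, ← hw'.snd]
    exact (conj_commute_iff w' _ _).2 ((L.commute_iff (subset_closure hx) (subset_closure hz)).2 k))
  refine ⟨w * z * w⁻¹, conj_perp hcls hw.fst hz, fun k => hxz ?_, fun u hu => ?_⟩
  · rw [← hw.snd] at k
    exact (conj_commute_iff w x z).1 k
  · have hv := hw.inv.mem_W hcls hu
    have hu' : w * (w⁻¹ * u * w⁻¹⁻¹) * w⁻¹ = u := by group
    obtain ⟨-, e⟩ := hF _ (subset_closure hv.1) hv.2.2.2.symm
    rw [hu'] at e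
    rw [← hu', conj_perp_iff hcls rfl, hu', e, ← hzc, conj_perp_iff hcls' rfl, L.adj_iff hz hv.1]

theorem exists_pullback {c' : G'} (hc : c' ∈ D') (hdc : ¬ Commute d' c') :
    ∃ c ∈ D, ¬ Commute d c ∧ ∀ u ∈ perp D d, (u ∈ perp D c ↔ F u ∈ perp D' c') := by
  set T' := {u | u ∈ perp D d ∧ F u ∈ perp D' c'} with hT'
  have him : F '' T' = Trace D' d' c' := by
    ext v
    refine ⟨?_, fun hv => ?_⟩
    · rintro ⟨u, ⟨hu, hu'⟩, rfl⟩
      exact ⟨L.mem_perp hu, hu'⟩
    · obtain ⟨u, hu, rfl⟩ := L.exists_perp hv.1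
      exact ⟨u, ⟨hu, hv.2⟩, rfl⟩
  have hcard : T'.ncard = 3240 := by
    rw [← ncard_trace h' hd' hc hdc, ← him, Set.InjOn.ncard_image fun a ha b hb e => L.inj_perp ha.1 hb.1 e]
  have hloc : ∀ x ∈ T', ∃ c ∈ perp D x, ¬ Commute d c ∧ T' ∩ perp D x = perp D d ∩ perp D x ∩ perp D c := by
    rintro x ⟨hx, hx'⟩
    obtain ⟨c, hcx, hdcx, hu⟩ := exists_local L h h' hd hd' hx hdc ⟨hc, hx'.2.1.symm, hx'.2.2.symm⟩
    refine ⟨c, hcx, hdcx, Set.ext fun u => ⟨fun k => ⟨⟨k.1.1, k.2⟩, (hu u ⟨k.1.1, k.2⟩).2 k.1.2⟩,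
      fun k => ⟨⟨k.1.1, (hu u k.1).1 k.2⟩, k.1.2⟩⟩⟩
  obtain ⟨x, hx⟩ := Set.nonempty_of_ncard_ne_zero (show T'.ncard ≠ 0 by omega)
  obtain ⟨c, hcx, hdcx, e⟩ := hloc x hx
  have key := exists_trace h hd (fun u hu => hu.1) hcard hloc hx hcx hdcx e
  refine ⟨c, hcx.1, hdcx, fun u hu => ⟨fun k => ?_, fun k => ?_⟩⟩
  · exact (key.symm.subset ⟨hu, k⟩).2
  · exact (key.subset ⟨hu, k⟩).2

/-- A member not commuting with the first has a counterpart with the same trace and stabiliser. -/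
theorem exists_match {k : G} (hk : k ∈ D) (hdk : ¬ Commute d k) :
    ∃ k' ∈ D', ¬ Commute d' k' ∧ (∀ u ∈ perp D d, (u ∈ perp D k ↔ F u ∈ perp D' k')) ∧
      ∀ g ∈ closure (perp D d), (Commute g k ↔ Commute (F g) k') := by
  have hcls := h.solid.full.cls
  have hcls' := h'.solid.full.cls
  obtain ⟨χ, hχ⟩ := h.exists_sign
  obtain ⟨y, hy⟩ := Set.nonempty_of_ncard_ne_zero
    (show (Trace D d k).ncard ≠ 0 by rw [ncard_trace h hd hk hdk]; norm_num)
  obtain ⟨w, -, e1, e2⟩ := h.exists_exchange hχ hd hy.1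
  have hw : Exch d y w := ⟨e1, e2⟩
  obtain ⟨w', hw', hF⟩ := L.exists_exch h h' hd hd' hy.1 hw
  have hky : k ∈ perp D y := ⟨hk, hy.2.2.1.symm, hy.2.2.2.symm⟩
  set z := w⁻¹ * k * w⁻¹⁻¹ with hz
  have hzd : z ∈ perp D d := conj_perp hcls hw.inv.snd hky
  have hwz : w * z * w⁻¹ = k := by rw [hz]; group
  set k' := w' * F z * w'⁻¹ with hk'
  have hk'y : k' ∈ perp D' (F y) := conj_perp hcls' hw'.fst (L.mem_perp hzd)
  have hdk' : ¬ Commute d' k' := by
    rw [hk', ← hw'.snd]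
    intro e
    have := (L.commute_iff (subset_closure hy.1) (subset_closure hzd)).1 ((conj_commute_iff w' _ _).1 e)
    exact hdk (by rw [← hw.snd, ← hwz]; exact (conj_commute_iff w _ _).2 this)
  have hlocal : ∀ u ∈ perp D d ∩ perp D y, (u ∈ perp D k ↔ F u ∈ perp D' k') := by
    intro u hu
    have hv := hw.inv.mem_W hcls hu
    have hu' : w * (w⁻¹ * u * w⁻¹⁻¹) * w⁻¹ = u := by group
    obtain ⟨-, e⟩ := hF _ (subset_closure hv.1) hv.2.2.2.symm
    rw [hu'] at e
    rw [← hu', ← hwz, conj_perp_iff hcls rfl, hu', e, hk', conj_perp_iff hcls' rfl, L.adj_iff hzd hv.1]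
  obtain ⟨c, hc, hdc, hct⟩ := exists_pullback L h h' hd hd' hk'y.1 hdk'
  have hyc : c ∈ perp D y := by
    have := (hct y hy.1).2 ⟨(L.mem_perp hy.1).1, hk'y.2.1.symm, hk'y.2.2.symm⟩
    exact ⟨hc, this.2.1.symm, this.2.2.symm⟩
  have htr : Trace D d c = Trace D d k := by
    rcases eq_of_local h hd hy.1 hky hyc hdk hdc (fun u hu =>
      (hct u hu.1.1).2 ((hlocal u hu.1).1 hu.2)) with e | e
    · rw [e]
    · rw [e, trace_flip hcls hd hk hdk]
  have hglobal : ∀ u ∈ perp D d, (u ∈ perp D k ↔ F u ∈ perp D' k') := fun u hu =>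
    ⟨fun e => (hct u hu).1 ((htr.symm.subset ⟨hu, e⟩).2), fun e => (htr.subset ⟨hu, (hct u hu).2 e⟩).2⟩
  have hpair : ∀ g ∈ closure (perp D d), Commute g y → (Commute g k ↔ Commute (F g) k') := by
    intro g hg hgy
    have hgd := closure_perp_commute hg
    set v := w⁻¹ * g * w⁻¹⁻¹ with hv
    have hvd : Commute v d := by
      have := (conj_commute_iff w⁻¹ g y).2 hgy
      rwa [hw.inv.snd] at this
    have hvy : Commute v y := by
      have := (conj_commute_iff w⁻¹ g d).2 hgd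
      rwa [hw.inv.fst] at this
    have hvm : v ∈ closure (perp D d) := by
      rw [← h.solid.centralizer_eq hd]; exact mem_centralizer_singleton_iff.2 hvd.eq
    obtain ⟨-, e⟩ := hF v hvm hvy
    have hg' : w * v * w⁻¹ = g := by rw [hv]; group
    rw [hg'] at e
    have h1 := conj_commute_iff w v z
    rw [hg', hwz] at h1
    rw [e, hk']
    exact h1.trans ((L.commute_iff hvm (subset_closure hzd)).symm.trans (conj_commute_iff w' _ _).symm)
  refine ⟨k', hk'y.1, hdk', hglobal, fun g hg => ?_⟩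
  have hTsub : closure (Trace D d k) ≤ closure (perp D d) := closure_mono Set.inter_subset_left
  -- elements generated by the trace fix both
  have hT : ∀ t ∈ closure (Trace D d k), Commute t k ∧ Commute (F t) k' := by
    intro t ht
    induction ht using closure_induction with
    | mem a ha => exact ⟨ha.2.2.2.symm, ((hglobal a ha.1).1 ha.2).2.2.symm⟩
    | one => rw [L.one]; exact ⟨Commute.one_left _, Commute.one_left _⟩
    | mul a b ha hb iha ihb =>
      rw [L.mul _ (hTsub ha) _ (hTsub hb)]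
      exact ⟨iha.1.mul_left ihb.1, iha.2.mul_left ihb.2⟩
    | inv a ha iha =>
      rw [L.inv (hTsub ha)]
      exact ⟨iha.1.inv_left, iha.2.inv_left⟩
  -- reduce to an element fixing `y`
  have reduce : g⁻¹ * y * g⁻¹⁻¹ ∈ Trace D d k → (Commute g k ↔ Commute (F g) k') := by
    intro hy'
    obtain ⟨t, ht, hty⟩ := trace_transitive h hd hk hdk hy hy'
    have hgt : g * t * y * (g * t)⁻¹ = y := by
      calc g * t * y * (g * t)⁻¹ = g * (t * y * t⁻¹) * g⁻¹ := by group
        _ = y := by rw [hty]; group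
    obtain ⟨t1, t2⟩ := hT t ht
    have hp := hpair (g * t) (mul_mem hg (hTsub ht)) (mul_inv_eq_iff_eq_mul.1 hgt)
    rw [L.mul _ hg _ (hTsub ht)] at hp
    refine ⟨fun e => ?_, fun e => ?_⟩
    · simpa using (hp.1 (e.mul_left t1)).mul_left t2.inv_left
    · simpa using (hp.2 (e.mul_left t2)).mul_left t1.inv_left
  have hg'd : g⁻¹ * d * g⁻¹⁻¹ = d := by
    rw [(closure_perp_commute (inv_mem hg)).eq, mul_inv_cancel_right]
  refine ⟨fun e => (reduce ⟨conj_perp hcls hg'd hy.1, ?_⟩).1 e, fun e => (reduce ?_).2 e⟩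
  · refine conj_perp hcls ?_ hy.2
    rw [e.inv_left.eq, mul_inv_cancel_right]
  · have hp := conj_perp hcls hg'd hy.1
    refine ⟨hp, (hglobal _ hp).2 ?_⟩
    rw [L.conj (inv_mem hg) (subset_closure hy.1), L.inv hg]
    refine conj_perp hcls' ?_ ((hglobal y hy.1).1 hy.2)
    rw [e.inv_left.eq, mul_inv_cancel_right]

end Cfsg.Lib.ThreeTr.M24U
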