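import Cfsg.Agent.ThreeTransposition.M24Count.M24

/-!
Parts of a class of 3-transpositions seen as classes in smaller groups: the members commuting with one member, or
with two commuting ones.
-/

set_option autoImplicit false
set_option linter.unusedSectionVars false

namespace Cfsg.Lib.ThreeTr.M24U

open Cfsg Subgroup

universe u

variable {G : Type u} [Group G] {D : Set G} {H : Type u} [Group H] {E : Set H}

/-- A part of a class whose generated group maps onto a group, the part going bijectively to a class and commutation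
being preserved. -/
structure Model (S : Set G) (E : Set H) (π : ↥(closure S) →* H) : Prop where
  surj : Function.Surjective π
  mem : ∀ x : ↥(closure S), (x : G) ∈ S → π x ∈ E
  inj : ∀ x y : ↥(closure S), (x : G) ∈ S → (y : G) ∈ S → π x = π y → x = y
  onto : ∀ e ∈ E, ∃ x : ↥(closure S), (x : G) ∈ S ∧ π x = e
  comm : ∀ x y : ↥(closure S), (x : G) ∈ S → (y : G) ∈ S → (Commute (π x) (π y) ↔ Commute (x : G) y)

/-- The members commuting with a member, modulo the centre of the group they generate. -/
theorem model_desc [Finite G] (hcls : IsThreeTranspositionClass D) (hT : TwinFree D) {d : G} (hd : d ∈ D) :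
    Model (perp D d) (descSet D d) (QuotientGroup.mk' (center ↥(closure (perp D d)))) where
  surj := QuotientGroup.mk'_surjective _
  mem x hx := ⟨x, hx, rfl⟩
  inj x y hx hy e := Subtype.ext (desc_mk_inj hcls hT hd hx hy e)
  onto e he := by
    obtain ⟨x, hx, rfl⟩ := he
    exact ⟨x, hx, rfl⟩
  comm x y hx hy := desc_commute_iff hcls hT hd hx hy

/-- A conjugate of a model. -/
theorem Model.conj {S : Set G} {π : ↥(closure S) →* H} (M : Model S E π) (g : G) :
    ∃ π' : ↥(closure ((fun x => g * x * g⁻¹) '' S)) →* H, Model ((fun x => g * x * g⁻¹) '' S) E π' := by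
  set S' := (fun x => g * x * g⁻¹) '' S with hS'
  have e : (closure S).map (MulAut.conj g).toMonoidHom = closure S' := by
    rw [MonoidHom.map_closure]
    rfl
  let i : ↥(closure S) ≃* ↥(closure S') :=
    ((MulAut.conj g).subgroupMap (closure S)).trans (MulEquiv.subgroupCongr e)
  have hi : ∀ x : ↥(closure S), ((i x : ↥(closure S')) : G) = g * x * g⁻¹ := fun _ => rfl
  have hiS : ∀ x : ↥(closure S), ((i x : ↥(closure S')) : G) ∈ S' ↔ (x : G) ∈ S := fun x => by
    rw [hi, hS']
    exact ⟨fun ⟨y, hy, h⟩ => (mul_left_cancel (mul_right_cancel h) : y = x) ▸ hy, fun h => ⟨_, h, rfl⟩⟩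
  refine ⟨π.comp i.symm.toMonoidHom, ⟨M.surj.comp i.symm.surjective, ?_, ?_, ?_, ?_⟩⟩
  · intro x hx
    show π (i.symm x) ∈ E
    refine M.mem _ ((hiS _).1 ?_)
    rwa [i.apply_symm_apply]
  · intro x y hx hy h
    change π (i.symm x) = π (i.symm y) at h
    refine i.symm.injective (M.inj _ _ ((hiS _).1 ?_) ((hiS _).1 ?_) h) <;> rwa [i.apply_symm_apply]
  · intro e he
    obtain ⟨x, hx, rfl⟩ := M.onto e he
    exact ⟨i x, (hiS x).2 hx, by simp⟩
  · intro x y hx hy
    show Commute (π (i.symm x)) (π (i.symm y)) ↔ _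
    have := M.comm (i.symm x) (i.symm y) ((hiS _).1 (by rwa [i.apply_symm_apply]))
      ((hiS _).1 (by rwa [i.apply_symm_apply]))
    refine this.trans ?_
    rw [← conj_commute_iff g, ← hi, ← hi, i.apply_symm_apply, i.apply_symm_apply]

/-- A model inside the neighbourhood of a member of a model. -/
theorem Model.comp {H' : Type u} [Group H'] {E' : Set H'} {S : Set G} {π : ↥(closure S) →* H} (M : Model S E π)
    (hSD : S ⊆ D) {u : ↥(closure S)} (hu : (u : G) ∈ S) {π' : ↥(closure (perp E (π u))) →* H'}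
    (M' : Model (perp E (π u)) E' π') :
    ∃ π₂ : ↥(closure (S ∩ perp D (u : G))) →* H', Model (S ∩ perp D (u : G)) E' π₂ := by
  set S₂ := S ∩ perp D (u : G) with hS₂
  have hle : closure S₂ ≤ closure S := closure_mono Set.inter_subset_left
  set φ := π.comp (inclusion hle) with hφ
  have hperp : ∀ x : ↥(closure S₂), (x : G) ∈ S₂ → φ x ∈ perp E (π u) := by
    intro x hx
    refine ⟨M.mem _ hx.1, fun e => hx.2.2.1 (congrArg Subtype.val (M.inj _ _ hx.1 hu e)), ?_⟩
    exact (M.comm u _ hu hx.1).2 hx.2.2.2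
  have hback : ∀ e ∈ perp E (π u), ∃ x : ↥(closure S₂), (x : G) ∈ S₂ ∧ φ x = e := by
    rintro e ⟨he, hne, hc⟩
    obtain ⟨x, hx, rfl⟩ := M.onto e he
    have hx₂ : (x : G) ∈ S₂ :=
      ⟨hx, hSD hx, fun h => hne (congrArg π (Subtype.ext h)), (M.comm u x hu hx).1 hc⟩
    exact ⟨⟨x, subset_closure hx₂⟩, hx₂, rfl⟩
  have hmem : ∀ x, φ x ∈ closure (perp E (π u)) := by
    intro x
    have htop : (⊤ : Subgroup ↥(closure S₂)) ≤ (closure (perp E (π u))).comap φ := by
      rw [← closure_closure_coe_preimage (k := S₂), closure_le]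
      intro y hy
      exact subset_closure (hperp y hy)
    exact htop (mem_top x)
  set φ' := φ.codRestrict _ hmem with hφ'
  have hsurj : Function.Surjective φ' := by
    have : closure (perp E (π u)) ≤ φ.range := (closure_le _).2 fun e he => by
      obtain ⟨x, -, hx⟩ := hback e he
      exact ⟨x, hx⟩
    rintro ⟨e, he⟩
    obtain ⟨x, rfl⟩ := this he
    exact ⟨x, rfl⟩
  refine ⟨π'.comp φ', ⟨M'.surj.comp hsurj, fun x hx => M'.mem _ (hperp x hx), fun x y hx hy h => ?_,
    fun e he => ?_, fun x y hx hy => ?_⟩⟩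
  · have := congrArg Subtype.val (M'.inj _ _ (hperp x hx) (hperp y hy) h)
    exact Subtype.ext (congrArg Subtype.val (M.inj _ _ hx.1 hy.1 this) :)
  · obtain ⟨q, hq, rfl⟩ := M'.onto e he
    obtain ⟨x, hx, hxq⟩ := hback _ hq
    exact ⟨x, hx, congrArg π' (Subtype.ext hxq)⟩
  · refine (M'.comm _ _ (hperp x hx) (hperp y hy)).trans ?_
    exact M.comm _ _ hx.1 hy.1

/-- The element of the generated group. -/
abbrev gen {S : Set G} {x : G} (hx : x ∈ S) : ↥(closure S) := ⟨x, subset_closure hx⟩

theorem Model.inj' {S : Set G} {π : ↥(closure S) →* H} (M : Model S E π) {x y : G} (hx : x ∈ S) (hy : y ∈ S)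
    (h : π (gen hx) = π (gen hy)) : x = y :=
  congrArg Subtype.val (M.inj (gen hx) (gen hy) hx hy h)

theorem Model.comm' {S : Set G} {π : ↥(closure S) →* H} (M : Model S E π) {x y : G} (hx : x ∈ S) (hy : y ∈ S) :
    Commute (π (gen hx)) (π (gen hy)) ↔ Commute x y :=
  M.comm (gen hx) (gen hy) hx hy

/-- The kernel of a model onto a group with trivial centre is the centre. -/
theorem Model.ker_eq {S : Set G} {π : ↥(closure S) →* H} (M : Model S E π) (hconj : ∀ x ∈ S, ∀ g ∈ closure S,
    g * x * g⁻¹ ∈ S) (hZ : center H = ⊥) : π.ker = center ↥(closure S) := by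
  refine le_antisymm (fun k hk => ?_) fun k hk => ?_
  · have hgen : (⊤ : Subgroup ↥(closure S)) ≤ centralizer ({k} : Set _) := by
      rw [← closure_closure_coe_preimage (k := S), closure_le]
      intro x hx
      refine mem_centralizer_singleton_iff.2 ?_
      have e := M.inj (k * x * k⁻¹) x (hconj _ hx _ k.2) hx (by
        rw [map_mul, map_mul, map_inv, MonoidHom.mem_ker.1 hk, one_mul, inv_one, mul_one])
      exact (mul_inv_eq_iff_eq_mul.1 e).symm
    exact mem_center_iff.2 fun g => mem_centralizer_singleton_iff.1 (hgen (mem_top g))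
  · have : π k ∈ center H := mem_center_iff.2 fun h => by
      obtain ⟨g, rfl⟩ := M.surj h
      rw [← map_mul, ← map_mul, mem_center_iff.1 hk g]
    rwa [hZ, mem_bot] at this

/-- Every member of a class of type M(24) carries a class of type M(23). -/
theorem exists_down [Finite G] (h : M24 D) {f : G} (hf : f ∈ D) :
    ∃ (Q : Type u) (_ : Group Q) (_ : Finite Q) (E : Set Q) (π : ↥(closure (perp D f)) →* Q),
      M23 E ∧ Model (perp D f) E π := by
  obtain ⟨d, hd, hQ, -⟩ := h.descended
  obtain ⟨g, rfl⟩ := exists_conj h.solid.full.cls hd hf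
  have M := (model_desc h.solid.full.cls h.solid.full.tower.twin hd).conj g
  rw [conj_image_perp h.solid.full.cls g d] at M
  obtain ⟨π, hπ⟩ := M
  exact ⟨_, inferInstance, inferInstance, _, π, hQ, hπ⟩

/-- Every member of a class of type M(23) carries a class of type M(22). -/
theorem exists_down₂₃ [Finite G] (h : M23 D) {f : G} (hf : f ∈ D) :
    ∃ (Q : Type u) (_ : Group Q) (_ : Finite Q) (E : Set Q) (π : ↥(closure (perp D f)) →* Q),
      M22 E ∧ Model (perp D f) E π := by
  obtain ⟨d, hd, hQ⟩ := h.descended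
  obtain ⟨g, rfl⟩ := exists_conj h.solid.full.cls hd hf
  have M := (model_desc h.solid.full.cls h.solid.full.tower.twin hd).conj g
  rw [conj_image_perp h.solid.full.cls g d] at M
  obtain ⟨π, hπ⟩ := M
  exact ⟨_, inferInstance, inferInstance, _, π, hQ, hπ⟩

/-- Two commuting members carry a class of type M(22). -/
theorem exists_down_two [Finite G] (h : M24 D) {f u : G} (hf : f ∈ D) (hu : u ∈ perp D f) :
    ∃ (P : Type u) (_ : Group P) (_ : Finite P) (E : Set P) (π : ↥(closure (perp D f ∩ perp D u)) →* P),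
      M22 E ∧ Model (perp D f ∩ perp D u) E π := by
  obtain ⟨Q, _, _, E, π, hQ, M⟩ := exists_down h hf
  obtain ⟨P, _, _, E', π', hP, M'⟩ := exists_down₂₃ hQ (M.mem (gen hu) hu)
  obtain ⟨π₂, hπ₂⟩ := M.comp (D := D) (fun x hx => hx.1) (u := gen hu) hu M'
  exact ⟨P, inferInstance, inferInstance, E', π₂, hP, hπ₂⟩

end Cfsg.Lib.ThreeTr.M24U
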